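import Cfsg.Agent.CuspidalGL.Primary
import Cfsg.Agent.Characters.BrauerInduction
import Cfsg.Agent.Star.Split

/-!
# Cuspidal characters of `GL_n`: the Brauer lift

`g ↦ ∑_α θ(α) mult_α(g)`, the sum of `θ` over the eigenvalues of `g`, is a generalized character
of the group of linear automorphisms.  On a p'-subgroup it is, up to a power of `p`, a combination
of permutation characters twisted by extensions of `θ`; Brauer's characterisation does the rest.
-/

set_option autoImplicit false
set_option linter.style.haveILetI false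
set_option linter.unusedSectionVars false

namespace CfsgLib.CuspidalGL

open Finset Polynomial Module
open scoped ComplexConjugate

universe u v w

variable {F : Type u} [Field F] [Fintype F]
  {V : Type v} [AddCommGroup V] [Module F V] [FiniteDimensional F V]

theorem finrank_ker_aeval_pow (f : F[X]) (g : Module.End F V) (e : ℕ)
    (he : finrank F V ≤ e) :
    LinearMap.ker (aeval g f ^ e) = LinearMap.ker (aeval g f ^ finrank F V) :=
  Module.End.ker_pow_eq_ker_pow_finrank_of_le he

/-- The multiplicities do not change under Frobenius powers. -/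
theorem mult_pow_card_pow (f : F[X]) (g : Module.End F V) (t : ℕ) :
    mult f (g ^ (Fintype.card F ^ t)) = mult f g := by
  unfold mult
  rw [aeval_pow_card_pow, ← pow_mul,
    finrank_ker_aeval_pow f g _ (Nat.le_mul_of_pos_left _ (pow_pos Fintype.card_pos t))]

theorem mult_le (f : F[X]) (g : Module.End F V) : mult f g ≤ finrank F V :=
  (Nat.div_le_self _ _).trans (Submodule.finrank_le _)

/-- The sum of `θ` over the eigenvalues in `L` of `g`, with multiplicity. -/
noncomputable def brauerSum {L : Type w} [Field L] [Algebra F L] [Fintype L] [DecidableEq L]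
    (θ : Lˣ →* ℂˣ) (g : Module.End F V) : ℂ :=
  ∑ α : Lˣ, (θ α : ℂ) * (mult (minpoly F (α : L)) g : ℂ)

theorem toLinearMap_pow (g : V ≃ₗ[F] V) (i : ℕ) :
    ((g ^ i : V ≃ₗ[F] V) : Module.End F V) = (g : Module.End F V) ^ i :=
  map_pow (LinearEquiv.automorphismGroup.toLinearMapMonoidHom) g i

theorem brauerSum_conj {L : Type w} [Field L] [Algebra F L] [Fintype L] [DecidableEq L]
    (θ : Lˣ →* ℂˣ) (g e : V ≃ₗ[F] V) :
    brauerSum θ ((e * g * e⁻¹ : V ≃ₗ[F] V) : Module.End F V) =
      brauerSum θ (g : Module.End F V) := by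
  unfold brauerSum
  refine Finset.sum_congr rfl fun α _ => ?_
  rw [← mult_congr (g := (g : Module.End F V)) e (fun v => ?_)]
  simp

/-- Twisted permutation characters. -/
theorem exists_int_twist {H : Type*} [Group H] [Fintype H] {C : Type*} [CommGroup C] [Fintype C]
    {Y : Type*} [Finite Y] [MulAction (C × H) Y] (θ : C →* ℂˣ) :
    Cfsg.IsGeneralizedCharacter H (fun h => (Nat.card C : ℂ)⁻¹ *
      ∑ c : C, (θ c : ℂ) * ((Nat.card {y : Y // (c, h) • y = y} : ℂ) - 1)) := by
  classical
  haveI := Fintype.ofFinite Y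
  let ρ : Representation ℂ (C × H) (Y → ℂ) :=
    { toFun := fun g => LinearMap.funLeft ℂ ℂ fun x => g⁻¹ • x
      map_one' := by ext f x; simp [LinearMap.funLeft]
      map_mul' := fun a b => by ext f x; simp [LinearMap.funLeft, mul_smul] }
  have hρ : ρ.character = fun g : C × H => (Nat.card {y : Y // g • y = y} : ℂ) := by
    funext g
    rw [Representation.character, LinearMap.trace_eq_matrix_trace ℂ (Pi.basisFun ℂ Y)]
    simp only [Matrix.trace, Matrix.diag, LinearMap.toMatrix_apply, Pi.basisFun_apply,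
      Pi.basisFun_repr]
    change (∑ x, (Pi.single x (1 : ℂ) : Y → ℂ) (g⁻¹ • x)) = _
    simp only [Pi.single_apply, Finset.sum_boole]
    rw [← Nat.card_eq_finsetCard]
    congr 1
    exact Nat.card_congr (Equiv.subtypeEquivRight fun x => by simp [eq_inv_smul_iff, eq_comm])
  have hY : Cfsg.IsGeneralizedCharacter (C × H)
      (fun g : C × H => (Nat.card {y : Y // g • y = y} : ℂ) - 1) :=
    Characters.isGen_sub (hρ ▸ Characters.isGen_of_isCharacter (Characters.isCharacter_character ρ))
      Characters.isGen_one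
  set f : H → ℂ := fun h => (Nat.card C : ℂ)⁻¹ *
    ∑ c : C, (θ c : ℂ) * ((Nat.card {y : Y // (c, h) • y = y} : ℂ) - 1) with hf
  have hcf : Cfsg.IsClassFunction H f := by
    intro g h
    simp only [hf]
    congr 1
    refine Finset.sum_congr rfl fun c _ => ?_
    have h2 := Characters.isClassFunction_of_isGen hY (c, g) (1, h)
    simp only [Prod.mk_mul_mk, Prod.inv_mk, inv_one, one_mul, mul_one] at h2
    rw [h2]
  refine Characters.isGen_of_classInner hcf fun χ => ?_
  have hχ : Cfsg.IsGeneralizedCharacter (C × H)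
      (fun g : C × H => conj (θ g.1 : ℂ) * (χ : H → ℂ) g.2) :=
    Characters.isGen_mul
      (Characters.isGen_comp (MonoidHom.fst C H) (Characters.isGen_conj
        (Characters.isGen_of_isIrr (Characters.isIrr_linChar θ))))
      (Characters.isGen_comp (MonoidHom.snd C H) (Characters.isGen_of_isIrr χ.2))
  obtain ⟨z, hz⟩ := Characters.classInner_gen hY hχ
  refine ⟨z, ?_⟩
  rw [← hz]
  simp only [Cfsg.classInner, hf, Nat.card_prod, Fintype.sum_prod_type, map_mul,
    Complex.conj_conj, Finset.mul_sum, Finset.sum_mul, Nat.cast_mul, mul_inv]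
  rw [Finset.sum_comm]
  refine Finset.sum_congr rfl fun c _ => Finset.sum_congr rfl fun h _ => ?_
  ring

section PPrime

variable {L : Type w} [Field L] [Algebra F L] [Fintype L]

/-- In an extension `L'` of `L`, the fixed maps `V → L'` of `(c, h)`. -/
theorem card_eigen_of_mem {L' : Type*} [Field L'] [Algebra F L'] [Fintype L'] (h : Module.End F V)
    (c : L') (f : F[X]) (hf : Irreducible f) (hfc : aeval c f = 0)
    (hss : LinearMap.range (aeval h f ^ finrank F V) = LinearMap.range (aeval h f)) :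
    Nat.card {φ : V →ₗ[F] L' // ∀ v, φ (h v) = c * φ v} = Fintype.card L' ^ mult f h := by
  haveI : Fact (Irreducible f) := ⟨hf⟩
  haveI : Finite V := Module.finite_of_finite F
  set R := LinearMap.range (aeval h f) with hR
  have hRinv : R ≤ R.comap h := by
    rintro _ ⟨v, rfl⟩
    refine ⟨h v, ?_⟩
    have := Commute.map (show Commute (X : F[X]) f from Commute.all _ _) (aeval h)
    rw [aeval_X] at this
    exact (LinearMap.congr_fun this.eq v).symm
  set b := quotMap h R with hb
  have hb0 : aeval b f = 0 := LinearMap.ext fun x => by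
    obtain ⟨v, rfl⟩ := Submodule.Quotient.mk_surjective R x
    rw [aeval_quotMap hRinv, LinearMap.zero_apply, Submodule.Quotient.mk_eq_zero]
    exact ⟨v, rfl⟩
  set θb : AdjoinRoot f →ₐ[F] Module.End F (V ⧸ R) := Ideal.Quotient.liftₐ (Ideal.span {f})
    (aeval b) (fun p hp => by
      obtain ⟨r, rfl⟩ := Ideal.mem_span_singleton'.1 hp
      rw [map_mul, hb0, mul_zero]) with hθb
  letI : Module (AdjoinRoot f) (V ⧸ R) := Module.compHom (V ⧸ R) θb.toRingHom
  have hsm : ∀ (k : AdjoinRoot f) (x : V ⧸ R), k • x = θb k x := fun _ _ => rfl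
  haveI : IsScalarTower F (AdjoinRoot f) (V ⧸ R) := ⟨fun c k v => by
    rw [hsm, hsm, map_smul]; rfl⟩
  have hroot : ∀ x : V ⧸ R, AdjoinRoot.root f • x = b x := fun x => by
    rw [hsm, show θb (AdjoinRoot.root f) = aeval b (X : F[X]) from rfl, aeval_X]
  set ι : AdjoinRoot f →+* L' :=
    AdjoinRoot.lift (algebraMap F L') c (by rwa [← aeval_def]) with hι
  letI : Algebra (AdjoinRoot f) L' := ι.toAlgebra
  have hrootL : ∀ y : L', AdjoinRoot.root f • y = c * y := fun y => by
    rw [Algebra.smul_def, RingHom.algebraMap_toAlgebra, hι, AdjoinRoot.lift_root]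
  haveI : IsScalarTower F (AdjoinRoot f) L' := IsScalarTower.of_algebraMap_eq fun x => by
    rw [RingHom.algebraMap_toAlgebra, hι, AdjoinRoot.algebraMap_eq, AdjoinRoot.lift_of]
  haveI : Finite (V ⧸ R) := Module.finite_of_finite F
  haveI : Module.Finite (AdjoinRoot f) (V ⧸ R) := Module.Finite.of_finite
  have hd : finrank F (AdjoinRoot f) = f.natDegree := by
    rw [(AdjoinRoot.powerBasis hf.ne_zero).finrank, AdjoinRoot.powerBasis_dim]
  have hk : finrank (AdjoinRoot f) (V ⧸ R) = mult f h := by
    have h1 := finrank_mul_finrank F (AdjoinRoot f) (V ⧸ R)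
    have h2 := LinearMap.finrank_range_add_finrank_ker (aeval h f ^ finrank F V)
    have h3 := R.finrank_quotient_add_finrank
    rw [hss] at h2
    rw [mult, show finrank F (LinearMap.ker (aeval h f ^ finrank F V)) = finrank F (V ⧸ R) by omega,
      ← h1, hd, Nat.mul_div_cancel_left _ hf.natDegree_pos]
  set β := Module.finBasis (AdjoinRoot f) (V ⧸ R) with hβ
  have e1 : {φ : V →ₗ[F] L' // ∀ v, φ (h v) = c * φ v} ≃
      {ψ : (V ⧸ R) →ₗ[F] L' // ∀ x, ψ (b x) = c * ψ x} :=
    { toFun := fun φ => ⟨R.liftQ φ.1 (by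
        rintro _ ⟨v, rfl⟩
        rw [LinearMap.mem_ker]
        have hpw : ∀ i : ℕ, φ.1 ((h ^ i) v) = c ^ i * φ.1 v := by
          intro i
          induction i with
          | zero => simp
          | succ i ih => rw [pow_succ', pow_succ', Module.End.mul_apply, φ.2, ih, mul_assoc]
        rw [aeval_eq_sum_range, LinearMap.sum_apply, map_sum]
        have h0 : aeval c f * φ.1 v = 0 := by rw [hfc, zero_mul]
        rw [aeval_eq_sum_range, Finset.sum_mul] at h0
        refine Eq.trans (Finset.sum_congr rfl fun i _ => ?_) h0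
        rw [LinearMap.smul_apply, map_smul, hpw, smul_mul_assoc]),
        fun x => by
          obtain ⟨v, rfl⟩ := Submodule.Quotient.mk_surjective R x
          rw [hb, quotMap_mk hRinv, Submodule.liftQ_apply, Submodule.liftQ_apply]
          exact φ.2 v⟩
      invFun := fun ψ => ⟨ψ.1 ∘ₗ R.mkQ, fun v => by
        rw [LinearMap.comp_apply, LinearMap.comp_apply, Submodule.mkQ_apply, Submodule.mkQ_apply,
          ← quotMap_mk hRinv]
        exact ψ.2 _⟩
      left_inv := fun φ => Subtype.ext (LinearMap.ext fun v => rfl)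
      right_inv := fun ψ => Subtype.ext (Submodule.linearMap_qext R (LinearMap.ext fun v => rfl)) }
  have e2 : ((V ⧸ R) →ₗ[AdjoinRoot f] L') ≃
      {ψ : (V ⧸ R) →ₗ[F] L' // ∀ x, ψ (b x) = c * ψ x} :=
    { toFun := fun ψ => ⟨ψ.restrictScalars F, fun x => by
        rw [LinearMap.restrictScalars_apply, LinearMap.restrictScalars_apply, ← hroot, map_smul,
          hrootL]⟩
      invFun := fun ψ =>
        { toAddHom := ψ.1.toAddHom
          map_smul' := fun k x => smul_root_comm ψ.1
            (fun w => by rw [hroot, hrootL]; exact ψ.2 w) k x }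
      left_inv := fun ψ => LinearMap.ext fun v => rfl
      right_inv := fun ψ => Subtype.ext (LinearMap.ext fun v => rfl) }
  rw [Nat.card_congr e1, ← Nat.card_congr e2, ← Nat.card_congr (β.constr ℕ).toEquiv,
    Nat.card_fun, Nat.card_fin, hk, Nat.card_eq_fintype_card]

/-- An eigenvalue in a bigger field already lies in `L`. -/
theorem mem_range_of_eigen {L' : Type*} [Field L'] [Algebra F L'] [Fintype L'] [Algebra L L']
    [IsScalarTower F L L'] {M : ℕ} (hcard : Fintype.card L = Fintype.card F ^ M)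
    (hL : ∀ d, 1 ≤ d → d ≤ finrank F V → d ∣ M) (h : Module.End F V) (c : L')
    (φ : V →ₗ[F] L') (hφ : ∀ v, φ (h v) = c * φ v) (hφ0 : φ ≠ 0) :
    c ∈ Set.range (algebraMap L L') := by
  classical
  haveI : Module.Finite F L' := Module.Finite.of_finite
  obtain ⟨v, hv⟩ : ∃ v, φ v ≠ 0 := by
    by_contra hc
    push Not at hc
    exact hφ0 (LinearMap.ext hc)
  have hpw : ∀ i : ℕ, φ ((h ^ i) v) = c ^ i * φ v := by
    intro i
    induction i with
    | zero => simp
    | succ i ih => rw [pow_succ', pow_succ', Module.End.mul_apply, hφ, ih, mul_assoc]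
  have hroot : aeval c h.charpoly = 0 := by
    have h0 : φ (aeval h h.charpoly v) = 0 := by
      rw [LinearMap.aeval_self_charpoly, LinearMap.zero_apply, map_zero]
    rw [aeval_eq_sum_range, LinearMap.sum_apply, map_sum] at h0
    have h1 : aeval c h.charpoly * φ v = 0 := by
      rw [aeval_eq_sum_range, Finset.sum_mul]
      refine Eq.trans (Finset.sum_congr rfl fun i _ => ?_) h0
      rw [LinearMap.smul_apply, map_smul, hpw, smul_mul_assoc]
    exact (mul_eq_zero.1 h1).resolve_right hv
  have hint : IsIntegral F c := Algebra.IsIntegral.isIntegral c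
  set d := (minpoly F c).natDegree with hd
  have hirr := minpoly.irreducible hint
  have hd1 : 1 ≤ d := hirr.natDegree_pos
  have hdn : d ≤ finrank F V := by
    rw [← LinearMap.charpoly_natDegree h]
    exact natDegree_le_of_dvd (minpoly.dvd F c hroot) h.charpoly_monic.ne_zero
  obtain ⟨t, ht⟩ := hL d hd1 hdn
  obtain ⟨r, hr⟩ := dvd_pow_card_sub_X hirr t
  have hcq : c ^ Fintype.card L = c := by
    have := congrArg (aeval c) hr
    rw [map_mul, minpoly.aeval, zero_mul, map_sub, map_pow, aeval_X, sub_eq_zero] at this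
    rw [hcard, ht]
    exact this
  set P : L[X] := X ^ Fintype.card L - X with hP
  have hP0 : P.map (algebraMap L L') ≠ 0 :=
    map_ne_zero (FiniteField.X_pow_card_sub_X_ne_zero L Fintype.one_lt_card)
  have hsplit : (P.map (algebraMap L L')).roots = P.roots.map (algebraMap L L') := by
    refine (roots_map_of_injective_of_card_eq_natDegree (algebraMap L L').injective ?_).symm
    rw [hP, FiniteField.roots_X_pow_card_sub_X L,
      FiniteField.X_pow_card_sub_X_natDegree_eq L Fintype.one_lt_card]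
    rfl
  have hmem : c ∈ (P.map (algebraMap L L')).roots := by
    rw [mem_roots hP0, IsRoot.def, hP, Polynomial.map_sub, Polynomial.map_pow, map_X, eval_sub,
      eval_pow, eval_X, hcq, sub_self]
  rw [hsplit, Multiset.mem_map] at hmem
  obtain ⟨x, -, hx⟩ := hmem
  exact ⟨x, hx⟩

variable [DecidableEq L]

/-- On a subgroup of order prime to `p` the Brauer lift is a generalized character. -/
theorem isGen_brauerSum_pPrime {M : ℕ} (hcard : Fintype.card L = Fintype.card F ^ M)
    (hL : ∀ d, 1 ≤ d → d ≤ finrank F V → d ∣ M) (θ : Lˣ →* ℂˣ) {p : ℕ} [Fact p.Prime] [CharP F p]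
    {H : Type v} [Group H] [Fintype H] (ρ : H →* (V ≃ₗ[F] V)) (hH : ∀ h : H, ¬ p ∣ orderOf h) :
    Cfsg.IsGeneralizedCharacter H (fun h => brauerSum θ ((ρ h : V ≃ₗ[F] V) : Module.End F V)) := by
  classical
  haveI : Finite V := Module.finite_of_finite F
  haveI hpL : CharP L p := charP_of_injective_algebraMap (algebraMap F L).injective p
  set n := finrank F V with hn
  set Q := Fintype.card L with hQ
  have hQ1 : 1 < Q := Fintype.one_lt_card
  have hHp : (Nat.card H).Coprime p := by
    refine Nat.Coprime.symm ((Nat.Prime.coprime_iff_not_dvd Fact.out).2 fun hd => ?_)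
    obtain ⟨x, hx⟩ := exists_prime_orderOf_dvd_card' p hd
    exact hH x (by rw [hx])
  obtain ⟨r, -, hFr⟩ := FiniteField.card F p
  obtain ⟨s, -, hLs⟩ := FiniteField.card L p
  have hqH : (Fintype.card F).Coprime (Nat.card H) := by
    rw [hFr]
    exact (hHp.symm).pow_left _
  have hss : ∀ (f : F[X]) (h : H),
      LinearMap.range (aeval ((ρ h : V ≃ₗ[F] V) : Module.End F V) f ^ n) =
        LinearMap.range (aeval ((ρ h : V ≃ₗ[F] V) : Module.End F V) f) := by
    intro f h
    rcases Nat.eq_zero_or_pos n with hn0 | hn0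
    · haveI : Subsingleton V := Module.finrank_zero_iff.1 hn0
      haveI : Subsingleton (Submodule F V) := (Submodule.subsingleton_iff F).2 ‹_›
      exact Subsingleton.elim _ _
    set g := ((ρ h : V ≃ₗ[F] V) : Module.End F V) with hg
    obtain ⟨m, hm⟩ : ∃ m, Fintype.card F ^ ((n + 1) * (Nat.card H).totient) = m * Nat.card H + 1 := by
      have h1 := (Nat.ModEq.pow_totient hqH).pow (n + 1)
      rw [one_pow, ← pow_mul, Nat.mul_comm] at h1
      have h2 := (Nat.modEq_iff_dvd' (Nat.one_le_pow _ _ Fintype.card_pos)).1 h1.symm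
      obtain ⟨m, hm⟩ := h2
      exact ⟨m, by rw [Nat.mul_comm m, ← hm, Nat.sub_add_cancel (Nat.one_le_pow _ _ Fintype.card_pos)]⟩
    set E := Fintype.card F ^ ((n + 1) * (Nat.card H).totient) with hE
    have hfix : g ^ E = g := by
      rw [hg, ← toLinearMap_pow, ← map_pow, hm, pow_succ, Nat.mul_comm m, pow_mul, pow_card_eq_one',
        one_pow, one_mul]
    have hfE : aeval g f ^ E = aeval g f := by
      rw [hE, ← aeval_pow_card_pow, ← hE, hfix]
    have hnE : n ≤ E := by
      have h1 : n < Fintype.card F ^ n := Nat.lt_pow_self Fintype.one_lt_card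
      have h2 : n ≤ (n + 1) * (Nat.card H).totient :=
        le_trans (Nat.le_succ n) (Nat.le_mul_of_pos_right _ (Nat.totient_pos.2 Nat.card_pos))
      exact h1.le.trans (Nat.pow_le_pow_right Fintype.card_pos h2)
    refine le_antisymm ?_ ?_
    · obtain ⟨m', hm'⟩ : ∃ m', n = m' + 1 := ⟨n - 1, by omega⟩
      rw [hm', pow_succ']
      exact LinearMap.range_comp_le_range _ _
    · conv_lhs => rw [← hfE, ← Nat.add_sub_cancel' hnE, pow_add]
      exact LinearMap.range_comp_le_range _ _
  have hj : ∀ j : ℕ, Cfsg.IsGeneralizedCharacter H (fun h => ∑ α : Lˣ, (θ α : ℂ) *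
      (∑ i ∈ range (mult (minpoly F (α : L)) ((ρ h : V ≃ₗ[F] V) : Module.End F V)),
        ((Q : ℂ) ^ (j + 1)) ^ i)) := by
    intro j
    haveI : NeZero (j + 1) := ⟨j.succ_ne_zero⟩
    set L' := FiniteField.Extension L p (j + 1) with hL'
    letI : Fintype L' := Fintype.ofFinite _
    letI : Algebra F L' := ((algebraMap L L').comp (algebraMap F L)).toAlgebra
    haveI : IsScalarTower F L L' := IsScalarTower.of_algebraMap_eq fun _ => rfl
    have hQ' : Fintype.card L' = Q ^ (j + 1) := by
      rw [← Nat.card_eq_fintype_card, FiniteField.natCard_extension, Nat.card_eq_fintype_card]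
    set emb : Lˣ →* L'ˣ := Units.map (algebraMap L L' : L →* L') with hemb
    have hembinj : Function.Injective emb := Units.map_injective (algebraMap L L').injective
    obtain ⟨θ', hθ'⟩ := MonoidHom.domRestrict_surjective ℂ (G := L'ˣ) emb.range
      (θ.comp (MonoidHom.ofInjective hembinj).symm.toMonoidHom)
    have hθ'' : ∀ α, θ' (emb α) = θ α := by
      intro α
      have := DFunLike.congr_fun hθ' (MonoidHom.ofInjective hembinj α)
      simpa [MonoidHom.ofInjective_apply] using this
    letI : MulAction (L'ˣ × H) (V →ₗ[F] L') :=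
      { smul := fun ch φ => (ch.1 : L') • (φ ∘ₗ ((ρ ch.2⁻¹ : V ≃ₗ[F] V) : Module.End F V))
        one_smul := fun φ => LinearMap.ext fun v => by
          change ((1 : L'ˣ) : L') * φ (ρ (1 : H)⁻¹ v) = φ v
          simp
        mul_smul := fun a b φ => LinearMap.ext fun v => by
          change ((a.1 * b.1 : L'ˣ) : L') * φ (ρ (a.2 * b.2)⁻¹ v) =
            (a.1 : L') * ((b.1 : L') * φ (ρ b.2⁻¹ (ρ a.2⁻¹ v)))
          rw [mul_inv_rev, map_mul, LinearEquiv.mul_apply, Units.val_mul, mul_assoc] }
    haveI : Finite (V →ₗ[F] L') := Finite.of_injective _ DFunLike.coe_injective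
    have key := exists_int_twist (H := H) (Y := V →ₗ[F] L') θ'
    refine (congrArg (Cfsg.IsGeneralizedCharacter H) (funext fun h => ?_)).mp key
    set g := ((ρ h : V ≃ₗ[F] V) : Module.End F V) with hg
    have hfixed : ∀ c : L'ˣ, {φ : V →ₗ[F] L' // (c, h) • φ = φ} ≃
        {φ : V →ₗ[F] L' // ∀ v, φ (g v) = (c : L') * φ v} := fun c =>
      Equiv.subtypeEquivRight fun φ => by
        rw [LinearMap.ext_iff]
        change (∀ v, (c : L') * φ (ρ h⁻¹ v) = φ v) ↔ _
        constructor
        · intro H1 v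
          rw [← H1 (g v), hg, map_inv]
          simp
        · intro H1 v
          rw [← H1, hg, map_inv]
          simp
    have hzero : ∀ c : L'ˣ, c ∉ Finset.univ.image emb →
        (Nat.card {φ : V →ₗ[F] L' // (c, h) • φ = φ} : ℂ) - 1 = 0 := by
      intro c hc
      rw [Nat.card_congr (hfixed c), sub_eq_zero, Nat.cast_eq_one, Nat.card_eq_one_iff_unique]
      have hall : ∀ φ : {φ : V →ₗ[F] L' // ∀ v, φ (g v) = (c : L') * φ v}, φ.1 = 0 := by
        intro φ
        by_contra hne
        obtain ⟨x, hx⟩ := mem_range_of_eigen hcard hL g (c : L') φ.1 φ.2 hne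
        have hx0 : x ≠ 0 := by
          rintro rfl
          rw [map_zero] at hx
          exact c.ne_zero hx.symm
        exact hc (Finset.mem_image.2 ⟨Units.mk0 x hx0, Finset.mem_univ _, Units.ext hx⟩)
      exact ⟨⟨fun a b => Subtype.ext ((hall a).trans (hall b).symm)⟩, ⟨⟨0, fun v => by simp⟩⟩⟩
    rw [← Finset.sum_subset (Finset.subset_univ (Finset.univ.image emb))
      (fun c _ hc => by rw [hzero c hc, mul_zero]), Finset.sum_image fun a _ b _ h => hembinj h,
      Finset.mul_sum, Nat.card_units, Nat.card_eq_fintype_card, hQ']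
    refine Finset.sum_congr rfl fun α _ => ?_
    haveI : Module.Finite F L := Module.Finite.of_finite
    rw [Nat.card_congr (hfixed _), hθ'', card_eigen_of_mem g ((emb α : L'ˣ) : L')
      (minpoly F (α : L)) (minpoly.irreducible (Algebra.IsIntegral.isIntegral _)) ?_ (hss _ h), hQ']
    · have hne : ((Q : ℂ) ^ (j + 1)) - 1 ≠ 0 := by
        rw [sub_ne_zero]
        exact_mod_cast (Nat.one_lt_pow j.succ_ne_zero hQ1).ne'
      rw [Nat.cast_pow, Nat.cast_pow, Nat.cast_sub (Nat.one_le_pow _ _ (by omega)), Nat.cast_pow,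
        Nat.cast_one, ← geom_sum_mul ((Q : ℂ) ^ (j + 1))
          (mult (minpoly F (α : L)) g)]
      field_simp
    · rw [hemb, Units.coe_map, MonoidHom.coe_coe, aeval_algebraMap_apply, minpoly.aeval, map_zero]
  set P : ℤ[X] := C ((Q : ℤ) ^ (∑ i ∈ range n, i)) - ∏ i ∈ range n, (C ((Q : ℤ) ^ i) - X) with hP
  set D : ℤ := (Q : ℤ) ^ (∑ i ∈ range n, i) with hD
  have hP0 : P.eval 0 = 0 := by
    simp [hP, hD, eval_prod, ← Finset.prod_pow_eq_pow_sum]
  have hPi : ∀ i < n, P.eval ((Q : ℤ) ^ i) = D := by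
    intro i hi
    rw [hP, eval_sub, eval_C, eval_prod, Finset.prod_eq_zero (Finset.mem_range.2 hi), sub_zero]
    simp
  set m : Lˣ → H → ℕ := fun α h =>
    mult (minpoly F (α : L)) ((ρ h : V ≃ₗ[F] V) : Module.End F V) with hm
  have hDgen : Cfsg.IsGeneralizedCharacter H
      (fun h => (D : ℂ) * brauerSum θ ((ρ h : V ≃ₗ[F] V) : Module.End F V)) := by
    refine (congrArg (Cfsg.IsGeneralizedCharacter H) (funext fun h => ?_)).mp
      (Characters.isGen_sum (range P.natDegree) _ fun j _ =>
        Characters.isGen_zsmul (hj j) (P.coeff (j + 1)))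
    rw [brauerSum, Finset.mul_sum, Finset.sum_apply]
    simp only [Pi.smul_apply, smul_eq_mul, Finset.mul_sum]
    rw [Finset.sum_comm]
    refine Finset.sum_congr rfl fun α _ => ?_
    rw [Finset.sum_comm]
    have hsum : ∀ i ∈ range (m α h), ∑ j ∈ range P.natDegree,
        (P.coeff (j + 1) : ℂ) * ((θ α : ℂ) * ((Q : ℂ) ^ (j + 1)) ^ i) = (θ α : ℂ) * D := by
      intro i hi
      have hin : i < n := lt_of_lt_of_le (Finset.mem_range.1 hi) (mult_le _ _)
      have h1 := hPi i hin
      rw [eval_eq_sum_range, Finset.sum_range_succ'] at h1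
      have hc0 : P.coeff 0 = 0 := by rw [coeff_zero_eq_eval_zero, hP0]
      rw [hc0, zero_mul, add_zero] at h1
      rw [← h1]
      push_cast
      rw [Finset.mul_sum]
      refine Finset.sum_congr rfl fun j _ => ?_
      rw [← pow_mul, ← pow_mul, Nat.mul_comm]
      ring
    rw [Finset.sum_congr rfl hsum, Finset.sum_const, Finset.card_range, nsmul_eq_mul]
    simp only [hm]
    ring
  have hcf : Cfsg.IsClassFunction H
      (fun h => brauerSum θ ((ρ h : V ≃ₗ[F] V) : Module.End F V)) := fun g h => by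
    simp only [map_mul, map_inv]
    exact brauerSum_conj θ (ρ g) (ρ h)
  refine Characters.isGen_of_classInner hcf fun χ => ?_
  obtain ⟨a, ha⟩ := Characters.classInner_gen hDgen (Characters.isGen_of_isIrr χ.2)
  set z := Cfsg.classInner (fun h => brauerSum θ ((ρ h : V ≃ₗ[F] V) : Module.End F V))
    (χ : H → ℂ) with hz
  have hDz : (D : ℂ) * z = a := by
    rw [← ha, hz, Cfsg.classInner, Cfsg.classInner]
    simp only [Finset.mul_sum]
    exact Finset.sum_congr rfl fun x _ => by ring
  have hint : IsIntegral ℤ ((Nat.card H : ℂ) * z) := by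
    rw [hz, Cfsg.classInner, ← mul_assoc, mul_inv_cancel₀
      (Nat.cast_ne_zero.2 Nat.card_pos.ne'), one_mul]
    refine IsIntegral.sum _ fun x _ => IsIntegral.mul ?_
      (Characters.gen_isIntegral (Characters.isGen_conj (Characters.isGen_of_isIrr χ.2)) x)
    refine IsIntegral.sum _ fun α _ => IsIntegral.mul ?_ (isIntegral_algebraMap (x := ((m α x : ℕ) : ℤ)))
    refine IsIntegral.of_pow (n := Fintype.card Lˣ) Fintype.card_pos ?_
    rw [← Units.val_pow_eq_pow_val, ← map_pow, pow_card_eq_one, map_one, Units.val_one]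
    exact isIntegral_one
  have hD0 : D ≠ 0 := pow_ne_zero _ (Nat.cast_ne_zero.2 (by omega))
  have hrat : ((Nat.card H : ℂ) * z) =
      algebraMap ℚ ℂ ((Nat.card H : ℚ) * a / D) := by
    rw [map_div₀, map_mul, map_natCast, map_intCast, map_intCast, eq_div_iff
      (Int.cast_ne_zero.2 hD0), ← hDz]
    ring
  rw [hrat, isIntegral_algebraMap_iff (algebraMap ℚ ℂ).injective,
    IsIntegrallyClosed.isIntegral_iff] at hint
  obtain ⟨b, hb⟩ := hint
  rw [eq_intCast, eq_div_iff (Int.cast_ne_zero.2 hD0)] at hb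
  have hb' : b * D = (Nat.card H : ℤ) * a := by exact_mod_cast hb
  have hcop : IsCoprime D (Nat.card H : ℤ) := by
    rw [hD]
    refine IsCoprime.pow_left (Int.isCoprime_iff_gcd_eq_one.2 ?_)
    rw [Int.gcd_natCast_natCast, hQ, hLs]
    exact (hHp.symm).pow_left _
  obtain ⟨k, hk⟩ := hcop.dvd_of_dvd_mul_left ⟨b, by rw [← hb']; ring⟩
  refine ⟨k, mul_left_cancel₀ (Int.cast_ne_zero.2 hD0 : (D : ℂ) ≠ 0) ?_⟩
  rw [hDz, hk, Int.cast_mul]

/-- **The Brauer lift is a generalized character.** -/
theorem isGen_brauerSum [Fintype (V ≃ₗ[F] V)] {M : ℕ}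
    (hcard : Fintype.card L = Fintype.card F ^ M)
    (hL : ∀ d, 1 ≤ d → d ≤ finrank F V → d ∣ M) (θ : Lˣ →* ℂˣ) :
    Cfsg.IsGeneralizedCharacter (V ≃ₗ[F] V)
      (fun g => brauerSum θ (g : Module.End F V)) := by
  classical
  obtain ⟨p, hp⟩ := CharP.exists F
  haveI : Fact p.Prime := ⟨CharP.char_is_prime F p⟩
  obtain ⟨r, -, hFr⟩ := FiniteField.card F p
  refine Characters.isGen_of_elementary (fun g e => brauerSum_conj θ g e) fun E ℓ hℓ hE => ?_
  haveI : Fact ℓ.Prime := ⟨hℓ⟩
  obtain ⟨P, S, hsp⟩ := Star.exists_split (p := p) (Star.isNilpotent_of_isElementary hE)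
  have hS : ∀ e : E, ((hsp.proj e : V ≃ₗ[F] V))⁻¹ * (e : V ≃ₗ[F] V) ∈ S := by
    intro e
    obtain ⟨q, hq, s, hs, he⟩ := hsp.gen e e.2
    have h1 : ((hsp.proj e : V ≃ₗ[F] V)) = q := by
      change Star.pPart p (e : V ≃ₗ[F] V) = q
      rw [← he, hsp.pPart_mul hq hs]
    rw [h1, ← he, inv_mul_cancel_left]
    exact hs
  let σ : E →* S :=
    { toFun := fun e => ⟨_, hS e⟩
      map_one' := Subtype.ext (by simp)
      map_mul' := fun a b => Subtype.ext (by
        change ((hsp.proj (a * b) : V ≃ₗ[F] V))⁻¹ * ((a : V ≃ₗ[F] V) * b) =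
          ((hsp.proj a : V ≃ₗ[F] V))⁻¹ * a * (((hsp.proj b : V ≃ₗ[F] V))⁻¹ * b)
        have hc : Commute ((hsp.proj b : V ≃ₗ[F] V)) (((hsp.proj a : V ≃ₗ[F] V))⁻¹ * a) :=
          hsp.comm _ (hsp.proj b).2 _ (hS a)
        rw [map_mul, Subgroup.coe_mul, mul_inv_rev, ← mul_assoc (((hsp.proj a : V ≃ₗ[F] V))⁻¹ * a),
          ← hc.inv_left.eq]
        group) }
  letI : Fintype S := Fintype.ofFinite _
  have hgen := isGen_brauerSum_pPrime (p := p) hcard hL θ (S.subtype)
    (fun s => by
      rw [← Subgroup.orderOf_coe]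
      exact hsp.isP' s s.2)
  refine (congrArg (Cfsg.IsGeneralizedCharacter E) (funext fun e => ?_)).mp
    (Characters.isGen_comp σ hgen)
  set q := (hsp.proj e : V ≃ₗ[F] V) with hq
  set s := q⁻¹ * (e : V ≃ₗ[F] V) with hs
  change brauerSum θ ((s : V ≃ₗ[F] V) : Module.End F V) = _
  have he : (e : V ≃ₗ[F] V) = q * s := by rw [hs, mul_inv_cancel_left]
  have hcomm : Commute q s := hsp.comm _ (hsp.proj e).2 _ (hS e)
  obtain ⟨k, hk⟩ := hsp.exists_orderOf (hsp.proj e).2
  have hsord : (Fintype.card F).Coprime (orderOf s) := by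
    rw [hFr]
    exact ((Nat.Prime.coprime_iff_not_dvd Fact.out).2 (hsp.isP' s (hS e))).pow_left _
  set t := (k + 1) * (orderOf s).totient with ht
  have hs1 : s ^ (Fintype.card F ^ t) = s := by
    have h1 := (Nat.ModEq.pow_totient hsord).pow (k + 1)
    rw [one_pow, ← pow_mul, Nat.mul_comm] at h1
    conv_rhs => rw [← pow_one s]
    exact pow_eq_pow_iff_modEq.2 h1
  have hq1 : q ^ (Fintype.card F ^ t) = 1 := by
    refine orderOf_dvd_iff_pow_eq_one.1 ?_
    rw [hk, hFr, ← pow_mul]
    refine pow_dvd_pow p ?_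
    have h1 : k ≤ t := le_trans (Nat.le_succ k)
      (Nat.le_mul_of_pos_right _ (Nat.totient_pos.2 (orderOf_pos s)))
    exact h1.trans (Nat.le_mul_of_pos_left _ r.pos)
  unfold brauerSum
  refine Finset.sum_congr rfl fun α _ => ?_
  rw [← mult_pow_card_pow _ ((s : V ≃ₗ[F] V) : Module.End F V) t,
    ← mult_pow_card_pow _ (((e : V ≃ₗ[F] V)) : Module.End F V) t, ← toLinearMap_pow,
    ← toLinearMap_pow, he, hcomm.mul_pow, hq1, hs1, one_mul]

end PPrime

end CfsgLib.CuspidalGL
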