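import Cfsg.Agent.CuspidalGL.Identity

/-!
# Cuspidal characters of `GL_n`: invariance under isomorphism
-/

set_option autoImplicit false
set_option linter.style.haveILetI false

namespace CfsgLib.CuspidalGL

open Finset Polynomial Module

universe u v w

variable {F : Type u} [Field F] {V : Type v} [AddCommGroup V] [Module F V]
  {W : Type w} [AddCommGroup W] [Module F W]

theorem aeval_congr (e : V ≃ₗ[F] W) {g : Module.End F V} {g' : Module.End F W}
    (h : ∀ v, e (g v) = g' (e v)) (p : F[X]) (v : V) : e (aeval g p v) = aeval g' p (e v) := by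
  have hp : ∀ (i : ℕ) (v : V), e ((g ^ i) v) = (g' ^ i) (e v) := by
    intro i
    induction i with
    | zero => intro v; rfl
    | succ i ih =>
      intro v
      rw [pow_succ', pow_succ', Module.End.mul_apply, Module.End.mul_apply, h, ih]
  rw [aeval_eq_sum_range, aeval_eq_sum_range, LinearMap.sum_apply, LinearMap.sum_apply, map_sum]
  exact Finset.sum_congr rfl fun i _ => by
    rw [LinearMap.smul_apply, LinearMap.smul_apply, map_smul, hp]

theorem finrank_ker_congr (e : V ≃ₗ[F] W) {g : Module.End F V} {g' : Module.End F W}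
    (h : ∀ v, e (g v) = g' (e v)) (p : F[X]) :
    finrank F (LinearMap.ker (aeval g p)) = finrank F (LinearMap.ker (aeval g' p)) := by
  refine (e.ofSubmodules _ _ ?_).finrank_eq
  ext w
  obtain ⟨v, rfl⟩ := e.surjective w
  rw [Submodule.mem_map_equiv, e.symm_apply_apply, LinearMap.mem_ker, LinearMap.mem_ker,
    ← aeval_congr e h, LinearEquiv.map_eq_zero_iff]

theorem ell_congr (e : V ≃ₗ[F] W) {g : Module.End F V} {g' : Module.End F W}
    (h : ∀ v, e (g v) = g' (e v)) (f : F[X]) : ell f g = ell f g' := by
  rw [ell, ell, finrank_ker_congr e h]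

theorem mult_congr (e : V ≃ₗ[F] W) {g : Module.End F V} {g' : Module.End F W}
    (h : ∀ v, e (g v) = g' (e v)) (f : F[X]) : mult f g = mult f g' := by
  rw [mult, mult, ← map_pow, ← map_pow, finrank_ker_congr e h, e.finrank_eq]

theorem cusA_congr [Fintype F] (e : V ≃ₗ[F] W) {g : Module.End F V} {g' : Module.End F W}
    (h : ∀ v, e (g v) = g' (e v)) (f : F[X]) : cusA f g = cusA f g' := by
  classical
  have hn : IsNilpotent (aeval g f) ↔ IsNilpotent (aeval g' f) := by
    constructor <;> rintro ⟨k, hk⟩ <;> refine ⟨k, LinearMap.ext fun v => ?_⟩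
    · obtain ⟨v, rfl⟩ := e.surjective v
      rw [← map_pow, ← aeval_congr e h, map_pow, hk, LinearMap.zero_apply, map_zero,
        LinearMap.zero_apply]
    · refine e.injective ?_
      rw [← map_pow, aeval_congr e h, map_pow, hk, LinearMap.zero_apply, LinearMap.zero_apply,
        map_zero]
  simp only [cusA, ell_congr e h, hn]

/-- The quotient by the zero subspace. -/
theorem cusA_quotMap_bot [Fintype F] (g : Module.End F V) (f : F[X]) :
    cusA f (quotMap g (⊥ : Submodule F V)) = cusA f g := by
  refine (cusA_congr (Submodule.quotEquivOfEqBot ⊥ rfl).symm (fun v => ?_) f).symm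
  rw [Submodule.quotEquivOfEqBot_symm_apply, Submodule.quotEquivOfEqBot_symm_apply,
    quotMap_mk (bot_le)]

end CfsgLib.CuspidalGL
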