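import Cfsg.Agent.CuspidalGL.Inner

/-!
# Cuspidal characters of `GL_n`: there are at least `φ(q^n - 1) / n` of them
-/

set_option autoImplicit false
set_option linter.style.haveILetI false
set_option linter.unusedSectionVars false

namespace CfsgLib.CuspidalGL

open Finset Polynomial Module
open scoped ComplexConjugate MatrixGroups

universe u

variable {F : Type u} [Field F] [Fintype F] [DecidableEq F]

/-- `GL n F` as the group of linear automorphisms. -/
noncomputable def glEquiv (n : ℕ) : GL (Fin n) F ≃* ((Fin n → F) ≃ₗ[F] (Fin n → F)) :=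
  Matrix.GeneralLinearGroup.toLin.trans (LinearMap.GeneralLinearGroup.generalLinearEquiv F _)

theorem glEquiv_apply (n : ℕ) (g : GL (Fin n) F) (v : Fin n → F) :
    glEquiv n g v = (g : Matrix (Fin n) (Fin n) F).mulVec v := rfl

theorem exists_injective_char (G : Type*) [CommGroup G] [Fintype G] [IsCyclic G] :
    ∃ ι : G →* ℂˣ, Function.Injective ι := by
  obtain ⟨g, hg⟩ := IsCyclic.exists_generator (α := G)
  have hN : orderOf g ≠ 0 := (orderOf_pos g).ne'
  have hz := Complex.isPrimitiveRoot_exp (orderOf g) hN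
  set z : ℂˣ := (hz.isUnit hN).unit with hzdef
  have hzu : IsPrimitiveRoot z (orderOf g) := IsPrimitiveRoot.coe_units_iff.1 (by simpa [hzdef] using hz)
  refine ⟨monoidHomOfForallMemZpowers hg (g' := z) (by rw [← hzu.eq_orderOf]), ?_⟩
  refine (injective_iff_map_eq_one _).2 fun x hx => ?_
  obtain ⟨i, rfl⟩ := (Subgroup.mem_zpowers_iff).1 (hg x)
  rw [map_zpow, monoidHomOfForallMemZpowers_apply_gen] at hx
  exact orderOf_dvd_iff_zpow_eq_one.1 (hzu.zpow_eq_one_iff_dvd i |>.1 hx)

/-- The conjugate of a character value is the value at the inverse. -/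
theorem conj_char {G : Type*} [Group G] [Fintype G] (χ : G →* ℂˣ) (a : G) :
    conj (χ a : ℂ) = (((χ a)⁻¹ : ℂˣ) : ℂ) := by
  have h : (χ a : ℂ) ^ Fintype.card G = 1 := by
    rw [← Units.val_pow_eq_pow_val, ← map_pow, pow_card_eq_one, map_one, Units.val_one]
  rw [Units.val_inv_eq_inv_val, Complex.inv_eq_conj
    (Complex.norm_eq_one_of_pow_eq_one h Fintype.card_ne_zero)]

theorem count_cuspidal (n : ℕ) (hn : 2 ≤ n) :
    ∃ S : Finset (GL (Fin n) F → ℂ), Nat.totient (Fintype.card F ^ n - 1) ≤ n * S.card ∧
      ∀ χ ∈ S, Cfsg.IsIrrCharacter (GL (Fin n) F) χ ∧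
        χ 1 = ∏ i ∈ Finset.Ico 1 n, ((Fintype.card F : ℂ) ^ i - 1) ∧
        ∀ m : ℕ, 0 < m → m < n → ∀ P : GL (Fin n) F → Prop, ∀ [DecidablePred P],
          (∀ g, P g ↔ ∀ i j : Fin n, ¬ (i.val < m ∧ m ≤ j.val) →
            (g : Matrix (Fin n) (Fin n) F) i j = (1 : Matrix (Fin n) (Fin n) F) i j) →
          ∑ g : GL (Fin n) F, (if P g then χ g else 0) = 0 := by
  classical
  set q := Fintype.card F with hq
  have hq1 : 1 < q := Fintype.one_lt_card
  set N := q ^ n - 1 with hN
  have hN0 : 0 < N := Nat.sub_pos_of_lt (Nat.one_lt_pow (by omega) hq1)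
  obtain ⟨p, hp⟩ := CharP.exists F
  haveI : Fact p.Prime := ⟨CharP.char_is_prime F p⟩
  haveI : NeZero n.factorial := ⟨n.factorial_ne_zero⟩
  set L := FiniteField.Extension F p n.factorial with hL
  letI : Fintype L := Fintype.ofFinite _
  haveI : Module.Finite F L := Module.Finite.of_finite
  have hcard : Fintype.card L = q ^ n.factorial := by
    rw [← Nat.card_eq_fintype_card, FiniteField.natCard_extension, Nat.card_eq_fintype_card]
  obtain ⟨ι, hι⟩ := exists_injective_char Lˣ
  set G := (Fin n → F) ≃ₗ[F] (Fin n → F) with hG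
  haveI : Finite G := Finite.of_injective _ DFunLike.coe_injective
  letI : Fintype G := Fintype.ofFinite _
  have hdimV : finrank F (Fin n → F) = n := Module.finrank_fin_fun F
  haveI : Nontrivial (Fin n → F) := Module.nontrivial_of_finrank_pos (R := F) (by omega)
  set θ : ℕ → (Lˣ →* ℂˣ) := fun k => ι.comp (powMonoidHom k) with hθ
  set Φ : ℕ → G → ℂ := fun k g => cuspidal (θ k) (g : Module.End F (Fin n → F)) with hΦ
  set E : Subgroup Lˣ := (powMonoidHom N).ker with hE
  have hEcard : Fintype.card E = N := by
    have hdvd : N ∣ q ^ n.factorial - 1 := by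
      obtain ⟨c, hc⟩ := Nat.dvd_factorial (by omega : 0 < n) le_rfl
      rw [hN, hc, pow_mul]
      simpa only [one_pow] using Nat.sub_dvd_pow_sub_pow (q ^ n) 1 c
    rw [← Nat.card_eq_fintype_card, hE, IsCyclic.card_powMonoidHom_ker, Nat.card_units,
      Nat.card_eq_fintype_card, hcard]
    exact Nat.gcd_eq_right hdvd
  obtain ⟨e, he⟩ := IsCyclic.exists_generator (α := E)
  have heord : orderOf (e : Lˣ) = N := by
    rw [Subgroup.orderOf_coe, orderOf_eq_card_of_forall_mem_zpowers he, Nat.card_eq_fintype_card,
      hEcard]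
  have hfilter : (Finset.univ.filter fun α : Lˣ => frobU (F := F) n α = α) =
      Finset.univ.filter fun α : Lˣ => α ∈ E := by
    refine Finset.filter_congr fun α _ => ?_
    rw [hE, MonoidHom.mem_ker, powMonoidHom_apply, frobU]
    have hqn : Fintype.card F ^ n = N + 1 := by rw [hN, ← hq]; omega
    rw [hqn, pow_succ, mul_eq_right]
  have hinner : ∀ k k', Cfsg.classInner (Φ k) (Φ k') =
      ((range n).filter fun i => k ≡ q ^ i * k' [MOD N]).card := by
    intro k k'
    have h := classInner_cuspidal (V := Fin n → F) hdimV (by omega) (θ k) (θ k')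
    rw [hfilter] at h
    have hterm : ∀ i, ∑ α ∈ Finset.univ.filter (fun α : Lˣ => α ∈ E),
        (θ k α : ℂ) * conj (θ k' (frobU (F := F) i α) : ℂ) =
        if k ≡ q ^ i * k' [MOD N] then (N : ℂ) else 0 := by
      intro i
      set χ : E →* ℂ := ((Units.coeHom ℂ).comp ((ι.comp (powMonoidHom k)) *
        (ι.comp ((powMonoidHom k').comp (powMonoidHom (q ^ i))))⁻¹)).comp E.subtype with hχ
      have hsum := sum_hom_units χ
      rw [Finset.sum_subtype (Finset.univ.filter fun α : Lˣ => α ∈ E) (p := fun α => α ∈ E)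
        (fun α => by simp)]
      refine Eq.trans (Eq.trans (Finset.sum_congr rfl fun α _ => ?_) hsum) ?_
      · simp only [hθ, hχ, conj_char, frobU, ← hq]
        simp
      have hiff : χ = 1 ↔ k ≡ q ^ i * k' [MOD N] := by
        rw [← heord]
        constructor
        · intro h1
          have h2 := DFunLike.congr_fun h1 e
          simp only [hχ, MonoidHom.comp_apply, Subgroup.coe_subtype, MonoidHom.mul_apply,
            MonoidHom.inv_apply, powMonoidHom_apply, Units.coeHom_apply, MonoidHom.one_apply,
            ← pow_mul] at h2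
          rw [Units.val_eq_one, mul_inv_eq_one] at h2
          exact pow_eq_pow_iff_modEq.1 (hι h2)
        · intro h1
          refine MonoidHom.ext fun α => ?_
          obtain ⟨z, hz⟩ := Subgroup.mem_zpowers_iff.1 (he α)
          simp only [hχ, MonoidHom.comp_apply, Subgroup.coe_subtype, MonoidHom.mul_apply,
            MonoidHom.inv_apply, powMonoidHom_apply, Units.coeHom_apply, MonoidHom.one_apply,
            ← pow_mul]
          rw [Units.val_eq_one, mul_inv_eq_one, ← hz, Subgroup.coe_zpow]
          congr 1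
          rw [← zpow_natCast, zpow_comm, zpow_natCast, pow_eq_pow_iff_modEq.2 h1,
            ← zpow_natCast ((e : Lˣ) ^ z), zpow_comm, zpow_natCast]
      by_cases hc : k ≡ q ^ i * k' [MOD N]
      · rw [if_pos (hiff.2 hc), if_pos hc, hEcard]
      · rw [if_neg (mt hiff.1 hc), if_neg hc, Nat.cast_zero]
    rw [Finset.sum_congr rfl fun i _ => hterm i, ← Finset.sum_filter, Finset.sum_const,
      nsmul_eq_mul, ← hq, mul_comm _ (N : ℂ)] at h
    have hqN : (q : ℂ) ^ n - 1 = (N : ℂ) := by
      rw [hN, Nat.cast_sub (Nat.one_le_pow _ _ (by omega)), Nat.cast_pow, Nat.cast_one]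
    rw [hqN] at h
    exact mul_left_cancel₀ (Nat.cast_ne_zero.2 hN0.ne') h
  set K := (range N).filter fun k => N.Coprime k with hK
  have hnorm : ∀ k ∈ K, Cfsg.classInner (Φ k) (Φ k) = 1 := by
    intro k hk
    rw [hK, Finset.mem_filter] at hk
    rw [hinner]
    have h1 : ((range n).filter fun i => k ≡ q ^ i * k [MOD N]) = {0} := by
      ext i
      rw [Finset.mem_filter, Finset.mem_range, Finset.mem_singleton]
      constructor
      · rintro ⟨hi, hmod⟩
        have h2 : 1 * k ≡ q ^ i * k [MOD N] := by rwa [one_mul]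
        have h3 := Nat.ModEq.cancel_right_of_coprime hk.2 h2
        by_contra hi0
        have h4 : q ^ i < N := by
          have h5 : q ^ (i + 1) ≤ q ^ n := Nat.pow_le_pow_right (by omega) (by omega)
          have h6 : 2 * q ^ i ≤ q ^ (i + 1) := by
            rw [pow_succ, mul_comm]; exact Nat.mul_le_mul_left _ hq1
          have h7 : 1 < q ^ i := Nat.one_lt_pow hi0 hq1
          omega
        have h7 : 1 < q ^ i := Nat.one_lt_pow hi0 hq1
        have := h3.eq_of_lt_of_lt (by omega) h4
        omega
      · rintro rfl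
        refine ⟨by omega, ?_⟩
        rw [pow_zero, one_mul]
    rw [h1, Finset.card_singleton, Nat.cast_one]
  set sgn : ℂ := (-1) ^ (n - 1) with hsgn
  have hdeg : ∀ k, sgn * Φ k 1 = ∏ i ∈ Finset.Ico 1 n, ((q : ℂ) ^ i - 1) := by
    intro k
    have h1 : Φ k 1 = ((cusC (q : ℤ) n : ℤ) : ℂ) := by
      simp only [hΦ]
      rw [show (((1 : G)) : Module.End F (Fin n → F)) = 1 from rfl, cuspidal_one, hdimV]
    rw [h1, cusC, Finset.prod_Ico_eq_prod_range, hsgn]
    push_cast
    rw [show ((-1 : ℂ)) ^ (n - 1) = ∏ _i ∈ range (n - 1), (-1 : ℂ) by simp, ← Finset.prod_mul_distrib]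
    refine Finset.prod_congr rfl fun i _ => ?_
    rw [Nat.add_comm 1 i]
    ring
  have hgen : ∀ k, Cfsg.IsGeneralizedCharacter G (Φ k) := fun k =>
    isGen_cuspidal (L := L) (M := n.factorial) hcard (θ k) n (Fin n → F) hdimV (by omega)
      (fun d hd hd' => Nat.dvd_factorial hd hd')
  set e' := glEquiv (F := F) n with he'
  set χ : ℕ → GL (Fin n) F → ℂ := fun k g => sgn * Φ k (e' g) with hχdef
  have hinner' : ∀ k k', Cfsg.classInner (χ k) (χ k') = Cfsg.classInner (Φ k) (Φ k') := by
    intro k k'
    have hs : sgn * conj sgn = 1 := by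
      rw [hsgn, map_pow, map_neg, map_one, ← mul_pow, neg_mul_neg, one_mul, one_pow]
    simp only [Cfsg.classInner, hχdef, Nat.card_congr e'.toEquiv, map_mul]
    congr 1
    refine Fintype.sum_equiv e'.toEquiv _ _ fun g => ?_
    simp only [MulEquiv.toEquiv_eq_coe, EquivLike.coe_coe]
    linear_combination (Φ k (e' g) * conj (Φ k' (e' g))) * hs
  refine ⟨K.image χ, ?_, ?_⟩
  · rw [Nat.totient_eq_card_coprime, ← hK]
    refine Finset.card_le_mul_card_image_of_maps_to (f := χ) (fun k hk => Finset.mem_image_of_mem _ hk)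
      n fun y hy => ?_
    obtain ⟨k, hk, rfl⟩ := Finset.mem_image.1 hy
    refine le_trans (Finset.card_le_card (t := (range n).image fun i => q ^ (n - i) * k % N) ?_)
      (Finset.card_image_le.trans (Finset.card_range n).le)
    intro k' hk'
    obtain ⟨hk'K, heq⟩ := Finset.mem_filter.1 hk'
    have h1 : Cfsg.classInner (Φ k) (Φ k') = 1 := by
      rw [← hinner', heq, hinner', hnorm k hk]
    rw [hinner] at h1
    have h2 : 0 < ((range n).filter fun i => k ≡ q ^ i * k' [MOD N]).card := by
      rcases Nat.eq_zero_or_pos ((range n).filter fun i => k ≡ q ^ i * k' [MOD N]).card with h0 | h0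
      · rw [h0, Nat.cast_zero] at h1; exact absurd h1 zero_ne_one
      · exact h0
    obtain ⟨i, hi⟩ := Finset.card_pos.1 h2
    obtain ⟨hi1, hi2⟩ := Finset.mem_filter.1 hi
    refine Finset.mem_image.2 ⟨i, hi1, ?_⟩
    have h3 := (hi2.mul_left (q ^ (n - i)))
    rw [← mul_assoc, ← pow_add, Nat.sub_add_cancel (Finset.mem_range.1 hi1).le] at h3
    have h4 : q ^ n * k' ≡ k' [MOD N] := by
      have h5 : q ^ n ≡ 1 [MOD N] := by
        rw [Nat.ModEq.comm, Nat.modEq_iff_dvd' (Nat.one_le_pow _ _ (by omega))]
      simpa using h5.mul_right k'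
    have h6 := h3.trans h4
    rw [Nat.ModEq, Nat.mod_eq_of_lt (Finset.mem_range.1 (Finset.mem_filter.1 hk'K).1)] at h6
    exact h6
  · intro y hy
    obtain ⟨k, hk, rfl⟩ := Finset.mem_image.1 hy
    refine ⟨?_, ?_, ?_⟩
    · refine Characters.isIrr_of_gen_norm_one ?_ ((hinner' k k).trans (hnorm k hk)) ?_
      · have h1 := Characters.isGen_zsmul (Characters.isGen_comp e'.toMonoidHom (hgen k))
          ((-1 : ℤ) ^ (n - 1))
        refine (congrArg (Cfsg.IsGeneralizedCharacter (GL (Fin n) F)) (funext fun g => ?_)).mp h1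
        simp [hχdef, hsgn]
      · simp only [hχdef, map_one, hdeg]
        have : (0 : ℝ) ≤ ∏ i ∈ Finset.Ico 1 n, ((q : ℝ) ^ i - 1) :=
          Finset.prod_nonneg fun i _ => sub_nonneg.2 (one_le_pow₀ (by exact_mod_cast hq1.le))
        convert this using 1
        rw [← Complex.ofReal_re (∏ i ∈ Finset.Ico 1 n, ((q : ℝ) ^ i - 1))]
        push_cast
        rfl
    · simp only [hχdef, map_one, hdeg]
    · intro m hm hmn P _ hP
      set U : Submodule F (Fin n → F) :=
        { carrier := {v | ∀ i : Fin n, m ≤ i.val → v i = 0}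
          add_mem' := fun hv hw i hi => by simp [hv i hi, hw i hi]
          zero_mem' := fun i _ => rfl
          smul_mem' := fun c v hv i hi => by simp [hv i hi] } with hU
      have hUmem : ∀ v, v ∈ U ↔ ∀ i : Fin n, m ≤ i.val → v i = 0 := fun v => Iff.rfl
      have hU0 : U ≠ ⊥ := by
        intro h
        have h1 : (Pi.single (⟨0, by omega⟩ : Fin n) (1 : F) : Fin n → F) ∈ U := fun i hi => by
          rw [Pi.single_eq_of_ne]
          intro h2
          rw [h2] at hi
          simp at hi
          omega
        rw [h, Submodule.mem_bot] at h1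
        simpa using congrFun h1 ⟨0, by omega⟩
      have hU1 : U ≠ ⊤ := by
        intro h
        have h1 : (Pi.single (⟨m, hmn⟩ : Fin n) (1 : F) : Fin n → F) ∈ U := h ▸ trivial
        simpa using h1 ⟨m, hmn⟩ le_rfl
      have h0 := sum_cuspidal_radical (θ k) hU0 hU1
        (fun g => P (e'.symm g)) (fun g => by
          obtain ⟨g, rfl⟩ := e'.surjective g
          rw [e'.symm_apply_apply, hP]
          set A := (g : Matrix (Fin n) (Fin n) F) with hA
          have hap : ∀ v, e' g v = A.mulVec v := fun v => glEquiv_apply n g v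
          constructor
          · intro h
            refine ⟨fun v i hi => ?_, fun u hu => funext fun i => ?_⟩
            · rw [Pi.sub_apply, hap, sub_eq_zero]
              conv_rhs => rw [← Matrix.one_mulVec v]
              simp only [Matrix.mulVec, dotProduct]
              exact Finset.sum_congr rfl fun j _ => by rw [h i j (fun hc => by omega)]
            · rw [hap]
              conv_rhs => rw [← Matrix.one_mulVec u]
              simp only [Matrix.mulVec, dotProduct]
              refine Finset.sum_congr rfl fun j _ => ?_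
              by_cases hj : m ≤ j.val
              · rw [(hUmem u).1 hu j hj, mul_zero, mul_zero]
              · rw [h i j (fun hc => hj hc.2)]
          · rintro ⟨h1, h2⟩ i j hij
            by_cases hi : m ≤ i.val
            · have := h1 (Pi.single j 1) i hi
              rw [Pi.sub_apply, hap, Matrix.mulVec_single_one, sub_eq_zero, Matrix.col_apply] at this
              rw [this, Matrix.one_apply, Pi.single_apply]
            · have hj : j.val < m := by
                by_contra hj
                exact hij ⟨by omega, by omega⟩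
              have := congrFun (h2 (Pi.single j 1) (fun l hl => by
                rw [Pi.single_eq_of_ne]; intro h3; rw [h3] at hl; omega)) i
              rw [hap, Matrix.mulVec_single_one, Matrix.col_apply] at this
              rw [this, Matrix.one_apply, Pi.single_apply])
      refine Eq.trans ?_ ((congrArg (sgn * ·) h0).trans (mul_zero sgn))
      rw [Finset.mul_sum]
      refine Fintype.sum_equiv e'.toEquiv _ _ fun g => ?_
      simp only [MulEquiv.toEquiv_eq_coe, EquivLike.coe_coe, e'.symm_apply_apply, mul_ite, mul_zero]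
      rfl

end CfsgLib.CuspidalGL
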