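import Cfsg.Agent.CuspidalGL.BrauerLift

/-!
# Cuspidal characters of `GL_n`: the function `cuspidal θ` is a generalized character

`cuspidal θ g = ∑_α θ(α) cusA_α(g)` is the Brauer lift minus parabolically induced functions of the
same shape in smaller dimension.
-/

set_option autoImplicit false
set_option linter.style.haveILetI false
set_option linter.unusedSectionVars false

namespace CfsgLib.CuspidalGL

open Finset Polynomial Module

universe u v w

variable {F : Type u} [Field F] [Fintype F]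
  {V : Type v} [AddCommGroup V] [Module F V] [FiniteDimensional F V]
  {L : Type w} [Field L] [Algebra F L] [Fintype L] [DecidableEq L]

/-- The cuspidal function of `θ`, up to the sign `(-1)^(n-1)`. -/
noncomputable def cuspidal (θ : Lˣ →* ℂˣ) (g : Module.End F V) : ℂ :=
  ∑ α : Lˣ, (θ α : ℂ) * ((cusA (minpoly F (α : L)) g : ℤ) : ℂ)

theorem cuspidal_congr {W : Type*} [AddCommGroup W] [Module F W] (θ : Lˣ →* ℂˣ) (e : V ≃ₗ[F] W)
    {g : Module.End F V} {g' : Module.End F W} (h : ∀ v, e (g v) = g' (e v)) :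
    cuspidal θ g = cuspidal θ g' :=
  Finset.sum_congr rfl fun α _ => by rw [cusA_congr e h]

theorem brauerSum_eq_sum (θ : Lˣ →* ℂˣ) (g : Module.End F V) :
    brauerSum θ g = ∑ U ∈ properInv g, cuspidal θ (quotMap g U) := by
  haveI : Module.Finite F L := Module.Finite.of_finite
  simp only [cuspidal, brauerSum]
  rw [Finset.sum_comm]
  refine Finset.sum_congr rfl fun α _ => ?_
  rw [← Finset.mul_sum, ← Int.cast_sum,
    (sum_cusA _ (minpoly.irreducible (Algebra.IsIntegral.isIntegral (α : L))) g).2, Int.cast_natCast]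

/-- Subspaces of equal dimension are conjugate. -/
theorem exists_map_eq {U₀ U : Submodule F V} (h : finrank F U₀ = finrank F U) :
    ∃ x : V ≃ₗ[F] V, U₀.map (x : V →ₗ[F] V) = U := by
  obtain ⟨C₀, hC₀⟩ := U₀.exists_isCompl
  obtain ⟨C, hC⟩ := U.exists_isCompl
  have hC' : finrank F C₀ = finrank F C := by
    have h1 := Submodule.finrank_add_eq_of_isCompl hC₀
    have h2 := Submodule.finrank_add_eq_of_isCompl hC
    omega
  set x : V ≃ₗ[F] V := (Submodule.prodEquivOfIsCompl U₀ C₀ hC₀).symm.trans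
    (((LinearEquiv.ofFinrankEq _ _ h).prodCongr (LinearEquiv.ofFinrankEq _ _ hC')).trans
      (Submodule.prodEquivOfIsCompl U C hC)) with hx
  have hle : U₀.map (x : V →ₗ[F] V) ≤ U := by
    rintro _ ⟨v, hv, rfl⟩
    have h1 : (Submodule.prodEquivOfIsCompl U₀ C₀ hC₀).symm v = (⟨v, hv⟩, 0) :=
      Submodule.prodEquivOfIsCompl_symm_apply_left U₀ C₀ hC₀ ⟨v, hv⟩
    simp [hx, h1]
  refine ⟨x, Submodule.eq_of_le_of_finrank_eq hle ?_⟩
  rw [LinearEquiv.finrank_map_eq, h]

/-- The stabilizer of a subspace. -/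
def parabolic (U₀ : Submodule F V) : Subgroup (V ≃ₗ[F] V) where
  carrier := {g | U₀.map (g : V →ₗ[F] V) = U₀}
  one_mem' := Submodule.map_id U₀
  mul_mem' {a b} ha hb := by
    change U₀.map ((a : V →ₗ[F] V) ∘ₗ (b : V →ₗ[F] V)) = U₀
    rw [Submodule.map_comp, show U₀.map (b : V →ₗ[F] V) = U₀ from hb]
    exact ha
  inv_mem' {a} ha := by
    change U₀.map (a.symm : V →ₗ[F] V) = U₀
    conv_lhs => rw [← show U₀.map (a : V →ₗ[F] V) = U₀ from ha, ← Submodule.map_comp]
    convert Submodule.map_id U₀ using 2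
    exact LinearMap.ext fun v => by simp

/-- The action of the stabilizer on the quotient. -/
noncomputable def parabolicHom (U₀ : Submodule F V) :
    parabolic U₀ →* ((V ⧸ U₀) ≃ₗ[F] (V ⧸ U₀)) where
  toFun g := Submodule.Quotient.equiv U₀ U₀ g.1 g.2
  map_one' := LinearEquiv.ext fun x => by
    obtain ⟨v, rfl⟩ := Submodule.Quotient.mk_surjective U₀ x
    rfl
  map_mul' a b := LinearEquiv.ext fun x => by
    obtain ⟨v, rfl⟩ := Submodule.Quotient.mk_surjective U₀ x
    rfl

/-- The sum over the invariant subspaces of one dimension is an induced function. -/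
theorem sum_eq_indFun [Fintype (V ≃ₗ[F] V)] (θ : Lˣ →* ℂˣ) (U₀ : Submodule F V) (hU₀ : U₀ ≠ ⊤)
    (g : V ≃ₗ[F] V) :
    Cfsg.indFun (parabolic U₀) (fun p => cuspidal θ
        ((parabolicHom U₀ p : (V ⧸ U₀) ≃ₗ[F] (V ⧸ U₀)) : Module.End F (V ⧸ U₀))) g =
      ∑ U ∈ (properInv (g : Module.End F V)).filter (fun U : Submodule F V => finrank F U = finrank F U₀),
        cuspidal θ (quotMap (g : Module.End F V) U) := by
  classical
  haveI : Finite V := Module.finite_of_finite F
  set P := parabolic U₀ with hP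
  set s := (properInv (g : Module.End F V)).filter (fun U : Submodule F V => finrank F U = finrank F U₀) with hs
  have hmem : ∀ x : V ≃ₗ[F] V,
      x⁻¹ * g * x ∈ P ↔ U₀.map (x : V →ₗ[F] V) ∈ s := by
    intro x
    set U := U₀.map (x : V →ₗ[F] V) with hU
    have hdim : finrank F U = finrank F U₀ := LinearEquiv.finrank_map_eq x U₀
    rw [hs, Finset.mem_filter, mem_properInv]
    have htop : U ≠ ⊤ := fun h => hU₀ (by
      refine Submodule.eq_top_of_finrank_eq ?_
      rw [← hdim, h, finrank_top])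
    simp only [ne_eq, htop, not_false_eq_true, and_true, hdim]
    constructor
    · intro h
      rw [← Submodule.map_le_iff_le_comap]
      rintro _ ⟨_, ⟨v, hv, rfl⟩, rfl⟩
      have h2 : (x⁻¹ * g * x : V ≃ₗ[F] V) v ∈ U₀ := by
        rw [← (h : U₀.map ((x⁻¹ * g * x : V ≃ₗ[F] V) : V →ₗ[F] V) = U₀)]
        exact ⟨v, hv, rfl⟩
      refine ⟨_, h2, ?_⟩
      simp [LinearEquiv.mul_apply]
    · intro h
      refine Submodule.eq_of_le_of_finrank_eq ?_ (LinearEquiv.finrank_map_eq _ U₀)
      rintro _ ⟨v, hv, rfl⟩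
      obtain ⟨w, hw, hwe⟩ := h (⟨v, hv, rfl⟩ : (x : V →ₗ[F] V) v ∈ U)
      have : ((x⁻¹ * g * x : V ≃ₗ[F] V) : V →ₗ[F] V) v = w := by
        simp only [LinearEquiv.coe_coe, LinearEquiv.mul_apply]
        apply x.injective
        simpa using hwe.symm
      rw [this]
      exact hw
  have hterm : ∀ x : V ≃ₗ[F] V, Cfsg.extendByZero P (fun p => cuspidal θ
      ((parabolicHom U₀ p : (V ⧸ U₀) ≃ₗ[F] (V ⧸ U₀)) : Module.End F (V ⧸ U₀))) (x⁻¹ * g * x) =
      if U₀.map (x : V →ₗ[F] V) ∈ s then
        cuspidal θ (quotMap (g : Module.End F V) (U₀.map (x : V →ₗ[F] V))) else 0 := by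
    intro x
    split_ifs with h
    · rw [Characters.extendByZero_of_mem P _ ((hmem x).2 h)]
      have hinv : U₀.map (x : V →ₗ[F] V) ≤
          (U₀.map (x : V →ₗ[F] V)).comap (g : Module.End F V) := by
        rw [hs, Finset.mem_filter, mem_properInv] at h
        exact h.1.1
      refine cuspidal_congr θ (Submodule.Quotient.equiv U₀ _ x rfl) fun y => ?_
      obtain ⟨v, rfl⟩ := Submodule.Quotient.mk_surjective U₀ y
      refine Eq.trans ?_ (quotMap_mk hinv (x v)).symm
      change Submodule.Quotient.mk (x ((x⁻¹ * g * x : V ≃ₗ[F] V) v)) = _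
      simp [LinearEquiv.mul_apply]
    · exact Characters.extendByZero_of_not_mem P _ (mt (hmem x).1 h)
  rw [Cfsg.indFun, Finset.sum_congr rfl fun x _ => hterm x, ← Finset.sum_filter,
    ← Finset.sum_fiberwise_of_maps_to (g := fun x : V ≃ₗ[F] V => U₀.map (x : V →ₗ[F] V)) (t := s)
      (fun x hx => (Finset.mem_filter.1 hx).2), Finset.mul_sum]
  refine Finset.sum_congr rfl fun U hU => ?_
  obtain ⟨x₀, hx₀⟩ := exists_map_eq (U₀ := U₀) (U := U) (Finset.mem_filter.1 hU).2.symm
  have hcard : ((Finset.univ.filter fun x : V ≃ₗ[F] V => U₀.map (x : V →ₗ[F] V) ∈ s).filter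
      fun x : V ≃ₗ[F] V => U₀.map (x : V →ₗ[F] V) = U).card = Nat.card P := by
    rw [Finset.filter_filter, ← Fintype.card_subtype, ← Nat.card_eq_fintype_card]
    refine Nat.card_congr ((Equiv.mulLeft x₀⁻¹).subtypeEquiv fun x => ?_)
    change _ ↔ U₀.map ((x₀⁻¹ * x : V ≃ₗ[F] V) : V →ₗ[F] V) = U₀
    have hinjm : Function.Injective (Submodule.map (x₀ : V →ₗ[F] V)) :=
      Submodule.map_injective_of_injective x₀.injective
    have hmm : (U₀.map ((x₀⁻¹ * x : V ≃ₗ[F] V) : V →ₗ[F] V)).map (x₀ : V →ₗ[F] V) =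
        U₀.map (x : V →ₗ[F] V) := by
      rw [← Submodule.map_comp]
      congr 1
      exact LinearMap.ext fun v => by simp
    constructor
    · rintro ⟨-, h⟩
      exact hinjm (by rw [hmm, h, hx₀])
    · intro h
      rw [h] at hmm
      rw [← hmm, hx₀]
      exact ⟨hU, rfl⟩
  rw [Finset.sum_congr rfl (g := fun _ => cuspidal θ (quotMap (g : Module.End F V) U))
    (fun x hx => by rw [(Finset.mem_filter.1 hx).2]), Finset.sum_const, hcard, nsmul_eq_mul,
    ← mul_assoc, inv_mul_cancel₀ (Characters.subgroup_card_ne_zero P), one_mul]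

theorem exists_finrank_eq {j : ℕ} (hj : j ≤ finrank F V) :
    ∃ U : Submodule F V, finrank F U = j := by
  obtain ⟨b, hb⟩ : ∃ f : Fin j → V, LinearIndependent F f :=
    ⟨fun i => Module.finBasis F V (Fin.castLE hj i),
      (Module.finBasis F V).linearIndependent.comp _ (Fin.castLE_injective hj)⟩
  exact ⟨Submodule.span F (Set.range b), by rw [finrank_span_eq_card hb, Fintype.card_fin]⟩

/-- **`cuspidal θ` is a generalized character.** -/
theorem isGen_cuspidal {M : ℕ} (hcard : Fintype.card L = Fintype.card F ^ M) (θ : Lˣ →* ℂˣ) :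
    ∀ (n : ℕ) (V : Type v) [AddCommGroup V] [Module F V] [FiniteDimensional F V]
      [Fintype (V ≃ₗ[F] V)], finrank F V = n → 0 < n → (∀ d, 1 ≤ d → d ≤ n → d ∣ M) →
      Cfsg.IsGeneralizedCharacter (V ≃ₗ[F] V) (fun g => cuspidal θ (g : Module.End F V)) := by
  intro n
  induction n using Nat.strong_induction_on with
  | _ n ih =>
    intro V _ _ _ _ hV hn hL
    classical
    haveI : Finite V := Module.finite_of_finite F
    choose U₀ hU₀ using fun j : Fin n => exists_finrank_eq (F := F) (V := V) (j := j.val)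
      (by have := j.isLt; omega)
    have hne : ∀ j : Fin n, U₀ j ≠ ⊤ := fun j h => by
      have h1 := hU₀ j
      rw [h, finrank_top, hV] at h1
      have := j.isLt
      omega
    have hgenj : ∀ j : Fin n, 0 < j.val → Cfsg.IsGeneralizedCharacter (V ≃ₗ[F] V)
        (fun g => ∑ U ∈ (properInv (g : Module.End F V)).filter (fun U : Submodule F V => finrank F U = j.val),
          cuspidal θ (quotMap (g : Module.End F V) U)) := by
      intro j hj
      haveI : Finite (V ⧸ U₀ j) := Module.finite_of_finite F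
      haveI : Finite ((V ⧸ U₀ j) ≃ₗ[F] (V ⧸ U₀ j)) := Finite.of_injective _ DFunLike.coe_injective
      letI : Fintype ((V ⧸ U₀ j) ≃ₗ[F] (V ⧸ U₀ j)) := Fintype.ofFinite _
      have hq := (U₀ j).finrank_quotient_add_finrank
      rw [hU₀ j, hV] at hq
      have := j.isLt
      have h1 := ih _ (by omega : finrank F (V ⧸ U₀ j) < n) (V ⧸ U₀ j) rfl (by omega)
        (fun d hd hd' => hL d hd (by omega))
      refine (congrArg (Cfsg.IsGeneralizedCharacter (V ≃ₗ[F] V)) (funext fun g => ?_)).mp
        (Characters.isGen_indFun (parabolic (U₀ j))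
          (Characters.isGen_comp (parabolicHom (U₀ j)) h1))
      rw [← hU₀ j]
      exact sum_eq_indFun θ (U₀ j) (hne j) g
    have hB := isGen_brauerSum (V := V) hcard (by rw [hV]; exact hL) θ
    have hrest := Characters.isGen_sum (Finset.univ.filter fun j : Fin n => 0 < j.val) _
      fun j hj => hgenj j (Finset.mem_filter.1 hj).2
    refine (congrArg (Cfsg.IsGeneralizedCharacter (V ≃ₗ[F] V)) (funext fun g => ?_)).mp
      (Characters.isGen_sub hB hrest)
    haveI : Nontrivial V := Module.nontrivial_of_finrank_pos (R := F) (by omega)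
    have hbot : (⊥ : Submodule F V) ∈ properInv (g : Module.End F V) :=
      mem_properInv.2 ⟨bot_le, bot_ne_top⟩
    rw [Pi.sub_apply, Finset.sum_apply, brauerSum_eq_sum,
      ← Finset.add_sum_erase _ _ hbot]
    have hsplit : ∑ j ∈ Finset.univ.filter (fun j : Fin n => 0 < j.val),
        ∑ U ∈ (properInv (g : Module.End F V)).filter (fun U : Submodule F V => finrank F U = j.val),
          cuspidal θ (quotMap (g : Module.End F V) U) =
        ∑ U ∈ (properInv (g : Module.End F V)).erase ⊥,
          cuspidal θ (quotMap (g : Module.End F V) U) := by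
      rw [← Finset.sum_biUnion]
      · refine Finset.sum_congr ?_ fun _ _ => rfl
        ext U
        simp only [Finset.mem_biUnion, Finset.mem_filter, Finset.mem_univ, true_and,
          Finset.mem_erase]
        constructor
        · rintro ⟨j, hj, hU, hUj⟩
          exact ⟨fun h => by rw [h, finrank_bot] at hUj; omega, hU⟩
        · rintro ⟨hU0, hU⟩
          have hlt := Submodule.finrank_lt (mem_properInv.1 hU).2
          rw [hV] at hlt
          exact ⟨⟨_, hlt⟩, Nat.pos_of_ne_zero fun h => hU0 (Submodule.finrank_eq_zero.1 h), hU, rfl⟩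
      · intro a _ b _ hab
        refine Finset.disjoint_filter.2 fun U _ h1 h2 => hab (Fin.ext (h1.symm.trans h2))
    rw [hsplit, add_sub_cancel_right]
    exact (cuspidal_congr θ (Submodule.quotEquivOfEqBot ⊥ rfl).symm (fun v => by
      rw [Submodule.quotEquivOfEqBot_symm_apply, Submodule.quotEquivOfEqBot_symm_apply,
        quotMap_mk bot_le])).symm

end CfsgLib.CuspidalGL
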