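import Cfsg.Agent.CuspidalGL.Socle

/-!
# Cuspidal characters of `GL_n`: the quotient identity

For an irreducible `f` of degree `d`, the sum of the weights `cusA f` over all proper invariant
quotients of `(V, g)` is the multiplicity of `f` in `g`.
-/

set_option autoImplicit false
set_option linter.style.haveILetI false

namespace CfsgLib.CuspidalGL

open Finset Polynomial Module

universe u v

variable {F : Type u} [Field F] {V : Type v} [AddCommGroup V] [Module F V]

/-- The map induced on `V ⧸ U` (zero if `U` is not invariant). -/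
noncomputable def quotMap (g : Module.End F V) (U : Submodule F V) : Module.End F (V ⧸ U) := by
  classical
  exact if h : U ≤ U.comap g then U.mapQ U g h else 0

theorem quotMap_mk {g : Module.End F V} {U : Submodule F V} (hU : U ≤ U.comap g) (v : V) :
    quotMap g U (Submodule.Quotient.mk v) = Submodule.Quotient.mk (g v) := by
  rw [quotMap, dif_pos hU]
  rfl

theorem quotMap_pow_mk {g : Module.End F V} {U : Submodule F V} (hU : U ≤ U.comap g) :
    ∀ (i : ℕ) (v : V),
      (quotMap g U ^ i) (Submodule.Quotient.mk v) = Submodule.Quotient.mk ((g ^ i) v)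
  | 0, v => rfl
  | i + 1, v => by
    rw [pow_succ', pow_succ', Module.End.mul_apply, Module.End.mul_apply, quotMap_pow_mk hU i,
      quotMap_mk hU]

theorem aeval_quotMap {g : Module.End F V} {U : Submodule F V} (hU : U ≤ U.comap g) (p : F[X])
    (v : V) :
    aeval (quotMap g U) p (Submodule.Quotient.mk v) = Submodule.Quotient.mk (aeval g p v) := by
  rw [aeval_eq_sum_range, aeval_eq_sum_range, LinearMap.sum_apply, LinearMap.sum_apply,
    ← Submodule.mkQ_apply U (∑ c ∈ range (p.natDegree + 1), (p.coeff c • g ^ c) v), map_sum]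
  refine Finset.sum_congr rfl fun i _ => ?_
  rw [LinearMap.smul_apply, LinearMap.smul_apply, quotMap_pow_mk hU, Submodule.mkQ_apply,
    Submodule.Quotient.mk_smul]

/-- The dimension over `F[T]/f` of `ker f(g)`: the number of Jordan blocks at `f`. -/
noncomputable def ell (f : F[X]) (g : Module.End F V) : ℕ :=
  finrank F (LinearMap.ker (aeval g f)) / f.natDegree

/-- The multiplicity of `f` in the characteristic polynomial of `g`. -/
noncomputable def mult (f : F[X]) (g : Module.End F V) : ℕ :=
  finrank F (LinearMap.ker (aeval g f ^ finrank F V)) / f.natDegree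

/-- The cuspidal weight of `(V, g)` at `f`: zero unless `g` is primary for `f`. -/
noncomputable def cusA [Fintype F] (f : F[X]) (g : Module.End F V) : ℤ := by
  classical
  exact if IsNilpotent (aeval g f) then
    cusC ((Fintype.card F : ℤ) ^ f.natDegree) (ell f g) else 0

variable [Fintype F] [FiniteDimensional F V]

/-- The `g`-invariant proper subspaces. -/
noncomputable def properInv (g : Module.End F V) : Finset (Submodule F V) :=
  haveI : Finite V := Module.finite_of_finite F
  (Set.toFinite {U : Submodule F V | U ≤ U.comap g ∧ U ≠ ⊤}).toFinset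

theorem mem_properInv {g : Module.End F V} {U : Submodule F V} :
    U ∈ properInv g ↔ U ≤ U.comap g ∧ U ≠ ⊤ := by simp [properInv]

omit [Fintype F] in
theorem pow_finrank_eq_zero {h : Module.End F V} (hh : IsNilpotent h) :
    h ^ finrank F V = 0 := by
  obtain ⟨e, he⟩ := hh
  have h1 := Module.End.ker_pow_le_ker_pow_finrank h e
  rw [he, LinearMap.ker_zero, top_le_iff, LinearMap.ker_eq_top] at h1
  exact h1

omit [Fintype F] in
theorem isNilpotent_quotMap_iff {g : Module.End F V} {U : Submodule F V} (hU : U ≤ U.comap g)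
    (f : F[X]) :
    IsNilpotent (aeval (quotMap g U) f) ↔ LinearMap.range (aeval g f ^ finrank F V) ≤ U := by
  constructor
  · intro h
    have h0 := pow_finrank_eq_zero h
    have h1 : aeval (quotMap g U) f ^ finrank F V = 0 := by
      obtain ⟨t, ht⟩ : ∃ t, finrank F V = finrank F (V ⧸ U) + t :=
        ⟨finrank F V - finrank F (V ⧸ U), by have := U.finrank_quotient_le; omega⟩
      rw [ht, pow_add, h0, zero_mul]
    rintro _ ⟨v, rfl⟩
    have := LinearMap.congr_fun h1 (Submodule.Quotient.mk v)
    rw [← map_pow, aeval_quotMap hU, map_pow, LinearMap.zero_apply,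
      Submodule.Quotient.mk_eq_zero] at this
    exact this
  · intro h
    refine ⟨finrank F V, LinearMap.ext fun x => ?_⟩
    obtain ⟨v, rfl⟩ := Submodule.Quotient.mk_surjective U x
    rw [← map_pow, aeval_quotMap hU, map_pow, LinearMap.zero_apply, Submodule.Quotient.mk_eq_zero]
    exact h ⟨v, rfl⟩

/-- Functions killing `range f(g)^N`, sorted by the largest invariant subspace in their kernel. -/
theorem card_eq_sum_core (g : Module.End F V) (R : Submodule F V) (hR : R ≤ R.comap g) (a : ℕ)
    (s : Finset (Submodule F V)) (hs : ∀ U, U ∈ s ↔ U ≤ U.comap g ∧ R ≤ U) :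
    Nat.card {φ : V →ₗ[F] Fin a → F // R ≤ LinearMap.ker φ} =
      ∑ U ∈ s, Nat.card {ψ : (V ⧸ U) →ₗ[F] Fin a → F // core (quotMap g U) ψ = ⊥} := by
  classical
  haveI : Finite V := Module.finite_of_finite F
  haveI : Finite (V →ₗ[F] Fin a → F) := Finite.of_injective _ DFunLike.coe_injective
  letI : Fintype (V →ₗ[F] Fin a → F) := Fintype.ofFinite _
  rw [Nat.card_eq_fintype_card, Fintype.card_subtype,
    Finset.card_eq_sum_card_fiberwise (f := fun φ => core g φ) (t := s)]
  · refine Finset.sum_congr rfl fun U hU => ?_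
    obtain ⟨hUi, hRU⟩ := (hs U).1 hU
    rw [Finset.filter_filter, ← Fintype.card_subtype, ← Nat.card_eq_fintype_card]
    have hker : ∀ φ : V →ₗ[F] Fin a → F, core g φ ≤ LinearMap.ker φ := fun φ v hv => by
      have := mem_core.1 hv 0
      simpa using this
    have hcore : ∀ ψ : (V ⧸ U) →ₗ[F] Fin a → F,
        core g (ψ ∘ₗ U.mkQ) = (core (quotMap g U) ψ).comap U.mkQ := by
      intro ψ
      ext v
      rw [Submodule.mem_comap, mem_core, mem_core]
      refine forall_congr' fun i => ?_
      rw [LinearMap.comp_apply, Submodule.mkQ_apply, Submodule.mkQ_apply, quotMap_pow_mk hUi]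
    refine Nat.card_congr
      { toFun := fun φ => ⟨U.liftQ φ.1 (by
          exact φ.2.2.symm.le.trans (hker φ.1)), ?_⟩
        invFun := fun ψ => ⟨ψ.1 ∘ₗ U.mkQ, ?_⟩
        left_inv := fun φ => Subtype.ext (LinearMap.ext fun v => rfl)
        right_inv := fun ψ => Subtype.ext (Submodule.linearMap_qext U (LinearMap.ext fun v => rfl)) }
    · refine (Submodule.eq_bot_iff _).2 fun x hx => ?_
      obtain ⟨v, rfl⟩ := Submodule.Quotient.mk_surjective U x
      rw [Submodule.Quotient.mk_eq_zero, ← φ.2.2, mem_core]
      intro i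
      have := mem_core.1 hx i
      rwa [quotMap_pow_mk hUi] at this
    · have h0 : core g (ψ.1 ∘ₗ U.mkQ) = U := by
        rw [hcore, ψ.2, Submodule.comap_bot, Submodule.ker_mkQ]
      exact ⟨hRU.trans (h0.symm.le.trans (hker _)), h0⟩
  · intro φ hφ
    rw [Finset.mem_coe, Finset.mem_filter] at hφ
    exact (hs _).2 ⟨core_inv g φ, le_core hR hφ.2⟩

/-- **The quotient identity.** -/
theorem sum_cusA (f : F[X]) (hf : Irreducible f) (g : Module.End F V) :
    f.natDegree ∣ finrank F (LinearMap.ker (aeval g f ^ finrank F V)) ∧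
    ∑ U ∈ properInv g, cusA f (quotMap g U) = (mult f g : ℤ) := by
  classical
  haveI : Finite V := Module.finite_of_finite F
  set N := finrank F V with hN
  set R := LinearMap.range (aeval g f ^ N) with hR
  have hRinv : R ≤ R.comap g := by
    rintro _ ⟨v, rfl⟩
    refine ⟨g v, ?_⟩
    have := Commute.map (show Commute (X : F[X]) (f ^ N) from Commute.all _ _) (aeval g)
    rw [aeval_X, map_pow] at this
    exact (LinearMap.congr_fun this.eq v).symm
  set D := finrank F (LinearMap.ker (aeval g f ^ N)) with hD
  have hDR : finrank F R + D = N := LinearMap.finrank_range_add_finrank_ker _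
  set s := (Set.toFinite {U : Submodule F V | U ≤ U.comap g ∧ R ≤ U}).toFinset with hs
  have hmem : ∀ U, U ∈ s ↔ U ≤ U.comap g ∧ R ≤ U := fun U => by simp [hs]
  set d := f.natDegree with hd
  set q : ℤ := (Fintype.card F : ℤ) with hq
  set P : Submodule F V → ℤ[X] := fun U => injPoly (q ^ d) d (ell f (quotMap g U))
    (finrank F (V ⧸ U) - finrank F (LinearMap.ker (aeval (quotMap g U) f))) with hP
  have hpoly : ∑ U ∈ s, P U = X ^ D := by
    refine eq_of_infinite_eval_eq _ _
      (Set.infinite_of_injective_forall_mem (f := fun a : ℕ => q ^ (a + N)) ?_ fun a => ?_)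
    · intro a b hab
      have h2 : Fintype.card F ^ (a + N) = Fintype.card F ^ (b + N) := by
        have h3 : (Fintype.card F : ℤ) ^ (a + N) = (Fintype.card F : ℤ) ^ (b + N) := hab
        exact_mod_cast h3
      have := Nat.pow_right_injective Fintype.one_lt_card h2
      omega
    · simp only [Set.mem_ofPred_eq, eval_finsetSum, eval_pow, eval_X]
      have h1 := card_eq_sum_core g R hRinv (a + N) s hmem
      have h2 : Nat.card {φ : V →ₗ[F] Fin (a + N) → F // R ≤ LinearMap.ker φ} =
          Fintype.card F ^ (D * (a + N)) := by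
        have e : ((V ⧸ R) →ₗ[F] Fin (a + N) → F) ≃
            {φ : V →ₗ[F] Fin (a + N) → F // R ≤ LinearMap.ker φ} :=
          { toFun := fun ψ => ⟨ψ ∘ₗ R.mkQ, fun v hv => by
              rw [LinearMap.mem_ker, LinearMap.comp_apply, Submodule.mkQ_apply,
                (Submodule.Quotient.mk_eq_zero R).2 hv, map_zero]⟩
            invFun := fun φ => R.liftQ φ.1 φ.2
            left_inv := fun ψ => Submodule.linearMap_qext R (LinearMap.ext fun v => rfl)
            right_inv := fun φ => Subtype.ext (LinearMap.ext fun v => rfl) }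
        have := R.finrank_quotient_add_finrank
        rw [← Nat.card_congr e, Module.natCard_eq_pow_finrank (K := F), Module.finrank_linearMap,
          Module.finrank_fin_fun, Nat.card_eq_fintype_card, show finrank F (V ⧸ R) = D by omega]
      have h3 : ∀ U ∈ s, (P U).eval (q ^ (a + N)) =
          (Nat.card {ψ : (V ⧸ U) →ₗ[F] Fin (a + N) → F // core (quotMap g U) ψ = ⊥} : ℤ) := by
        intro U hU
        obtain ⟨hUi, hRU⟩ := (hmem U).1 hU
        have hnil := (isNilpotent_quotMap_iff hUi f).2 hRU
        have := U.finrank_quotient_le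
        exact ((card_core_bot f hf (quotMap g U) hnil).2 (a + N) (by omega)).symm
      rw [Finset.sum_congr rfl h3, ← Nat.cast_sum, ← h1, h2, Nat.cast_pow, Nat.mul_comm, pow_mul]
  have hder := congrArg (fun p => (derivative p).eval 1) hpoly
  simp only [derivative_sum, eval_finsetSum, derivative_pow_X] at hder
  have htop : (⊤ : Submodule F V) ∈ s := (hmem ⊤).2 ⟨fun v _ => trivial, le_top⟩
  have htop0 : (derivative (P ⊤)).eval 1 = 0 := by
    have h0 : finrank F (V ⧸ (⊤ : Submodule F V)) = 0 := Module.finrank_zero_of_subsingleton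
    have h1 : finrank F (LinearMap.ker (aeval (quotMap g (⊤ : Submodule F V)) f)) = 0 := by
      have := Submodule.finrank_le (LinearMap.ker (aeval (quotMap g (⊤ : Submodule F V)) f))
      omega
    simp only [hP, ell, h0, h1, Nat.zero_div, Nat.sub_zero]
    exact derivative_injPoly_zero _ _
  have hset : s.erase ⊤ = (properInv g).filter fun U => R ≤ U := by
    ext U
    rw [Finset.mem_erase, hmem, Finset.mem_filter, mem_properInv]
    tauto
  have hzero : ∀ U ∈ properInv g, cusA f (quotMap g U) ≠ 0 → R ≤ U := by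
    intro U hU h
    by_contra hRU
    rw [cusA, if_neg fun hn => hRU ((isNilpotent_quotMap_iff (mem_properInv.1 hU).1 f).1 hn)] at h
    exact h rfl
  have hkey : (d : ℤ) * ∑ U ∈ properInv g, cusA f (quotMap g U) = D := by
    rw [← hder, ← Finset.add_sum_erase s _ htop, htop0, zero_add, hset,
      ← Finset.sum_filter_of_ne hzero, Finset.mul_sum]
    refine Finset.sum_congr rfl fun U hU => ?_
    obtain ⟨hU', hRU⟩ := Finset.mem_filter.1 hU
    obtain ⟨hUi, hUt⟩ := mem_properInv.1 hU'
    have hnil := (isNilpotent_quotMap_iff hUi f).2 hRU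
    haveI : Nontrivial (V ⧸ U) := Submodule.Quotient.nontrivial_iff.2 hUt
    have hk : LinearMap.ker (aeval (quotMap g U) f) ≠ ⊥ := by
      intro hk
      obtain ⟨e, he⟩ := hnil
      have hinj : Function.Injective ⇑(aeval (quotMap g U) f ^ e) := by
        rw [Module.End.coe_pow]
        exact (LinearMap.ker_eq_bot.1 hk).iterate e
      obtain ⟨x, hx⟩ := exists_ne (0 : V ⧸ U)
      refine hx (hinj ?_)
      rw [he]
      rfl
    have hl : 1 ≤ ell f (quotMap g U) := by
      rw [ell]
      refine Nat.div_pos (Nat.le_of_dvd ?_ (card_core_bot f hf _ hnil).1) hf.natDegree_pos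
      exact Nat.pos_of_ne_zero fun h0 => hk (Submodule.finrank_eq_zero.1 h0)
    rw [hP, derivative_injPoly _ _ _ hl, cusA, if_pos hnil]
  have hdvd : d ∣ D := Int.natCast_dvd_natCast.1 (Dvd.intro _ hkey)
  refine ⟨hdvd, ?_⟩
  obtain ⟨m, hm⟩ := hdvd
  have hd0 : 0 < d := hf.natDegree_pos
  rw [mult, ← hD, hm, Nat.mul_div_cancel_left _ hd0]
  rw [hm, Nat.cast_mul] at hkey
  exact mul_left_cancel₀ (Int.natCast_ne_zero.2 hd0.ne') hkey

end CfsgLib.CuspidalGL
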