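import Cfsg.Agent.CuspidalGL.Cuspidal

/-!
# Cuspidal characters of `GL_n`: inner products and degree
-/

set_option autoImplicit false
set_option linter.style.haveILetI false
set_option linter.unusedSectionVars false

namespace CfsgLib.CuspidalGL

open Finset Polynomial Module
open scoped ComplexConjugate

universe u v w

variable {F : Type u} [Field F] [Fintype F]
  {V : Type v} [AddCommGroup V] [Module F V] [FiniteDimensional F V]
  {L : Type w} [Field L] [Algebra F L] [Fintype L] [DecidableEq L]

theorem minpoly_irreducible (α : L) : Irreducible (minpoly F α) :=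
  haveI : Module.Finite F L := Module.Finite.of_finite
  minpoly.irreducible (Algebra.IsIntegral.isIntegral α)

/-- Periodic sums over a multiple of the period. -/
theorem sum_range_periodic (G : ℕ → ℂ) {d : ℕ} (hG : ∀ i, G (i + d) = G i) :
    ∀ m : ℕ, ∑ i ∈ range (d * m), G i = (m : ℂ) * ∑ i ∈ range d, G i
  | 0 => by simp
  | m + 1 => by
    have hper : ∀ m i, G (d * m + i) = G i := fun m => by
      induction m with
      | zero => simp
      | succ m ih => intro i; rw [Nat.mul_succ, Nat.add_right_comm, hG, ih]
    rw [Nat.mul_succ, Finset.sum_range_add, sum_range_periodic G hG m]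
    simp only [hper]
    push_cast
    ring

/-- Frobenius powers of a unit of `L`. -/
def frobU (i : ℕ) (α : Lˣ) : Lˣ := α ^ (Fintype.card F ^ i)

theorem frobU_add (i j : ℕ) (α : Lˣ) :
    frobU (F := F) (i + j) α = frobU (F := F) j (frobU (F := F) i α) := by
  rw [frobU, frobU, frobU, ← pow_mul, pow_add]

theorem frobU_injective (i : ℕ) : Function.Injective (frobU (F := F) (L := L) i) := by
  obtain ⟨p, hp⟩ := CharP.exists F
  haveI : Fact p.Prime := ⟨CharP.char_is_prime F p⟩
  haveI : CharP L p := charP_of_injective_algebraMap (algebraMap F L).injective p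
  obtain ⟨r, -, hr⟩ := FiniteField.card F p
  intro a b h
  have h1 : (a : L) ^ p ^ ((r : ℕ) * i) = (b : L) ^ p ^ ((r : ℕ) * i) := by
    have := congrArg (Units.val) h
    rwa [frobU, frobU, Units.val_pow_eq_pow_val, Units.val_pow_eq_pow_val, hr, ← pow_mul] at this
  exact Units.ext (iterateFrobenius_inj L p _ (by simpa [iterateFrobenius_def] using h1))

theorem minpoly_frobU (i : ℕ) (α : Lˣ) :
    minpoly F (frobU (F := F) i α : L) = minpoly F (α : L) := by
  haveI : Module.Finite F L := Module.Finite.of_finite
  set f := minpoly F (α : L) with hf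
  have hroot : ∀ (t : ℕ) (x : L), aeval (x ^ (Fintype.card F ^ t)) f =
      aeval x f ^ (Fintype.card F ^ t) := by
    intro t
    induction t with
    | zero => simp
    | succ t ih =>
      intro x
      rw [pow_succ, pow_mul, ← Polynomial.expand_aeval (Fintype.card F), FiniteField.expand_card,
        map_pow, ih, ← pow_mul]
  refine (minpoly.eq_of_irreducible_of_monic (minpoly_irreducible _) ?_
    (minpoly.monic (Algebra.IsIntegral.isIntegral _))).symm
  rw [frobU, Units.val_pow_eq_pow_val, hroot, hf, minpoly.aeval,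
    zero_pow (pow_ne_zero _ Fintype.card_ne_zero)]

theorem frobU_natDegree (α : Lˣ) :
    frobU (F := F) (minpoly F (α : L)).natDegree α = α := by
  obtain ⟨r, hr⟩ := dvd_pow_card_sub_X (minpoly_irreducible (F := F) (α : L)) 1
  refine Units.ext ?_
  have := congrArg (aeval (α : L)) hr
  rw [map_mul, minpoly.aeval, zero_mul, map_sub, map_pow, aeval_X, sub_eq_zero, mul_one] at this
  rw [frobU, Units.val_pow_eq_pow_val, this]

theorem natDegree_le_of_frobU_eq {m : ℕ} (hm : 0 < m) (α : Lˣ)
    (h : frobU (F := F) m α = α) : (minpoly F (α : L)).natDegree ≤ m := by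
  haveI : Module.Finite F L := Module.Finite.of_finite
  set f := minpoly F (α : L) with hf
  have hfi : Irreducible f := minpoly_irreducible _
  haveI : Fact (Irreducible f) := ⟨hfi⟩
  haveI : FiniteDimensional F (AdjoinRoot f) := (AdjoinRoot.powerBasis hfi.ne_zero).finite
  haveI : Finite (AdjoinRoot f) := Module.finite_of_finite F
  letI : Fintype (AdjoinRoot f) := Fintype.ofFinite _
  have hdvd : f ∣ (X : F[X]) ^ (Fintype.card F ^ m) - X := by
    refine minpoly.dvd F _ ?_
    rw [map_sub, map_pow, aeval_X, sub_eq_zero, ← Units.val_pow_eq_pow_val]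
    exact congrArg Units.val h
  have hfix : ∀ x : AdjoinRoot f, x ^ (Fintype.card F ^ m) = x := by
    intro x
    obtain ⟨P, rfl⟩ := AdjoinRoot.mk_surjective x
    have hexp : ∀ t : ℕ, P ^ (Fintype.card F ^ t) = expand F (Fintype.card F ^ t) P := by
      intro t
      induction t with
      | zero => simp
      | succ t ih => rw [pow_succ, pow_mul, ih, ← FiniteField.expand_card, expand_expand, mul_comm]
    rw [← map_pow, hexp, ← sub_eq_zero, ← map_sub, AdjoinRoot.mk_eq_zero]
    refine hdvd.trans ?_
    rw [expand_eq_comp_X_pow]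
    have := Polynomial.sub_dvd_eval_sub ((X : F[X]) ^ (Fintype.card F ^ m)) X (P.map C)
    rwa [eval_map, eval_map, ← comp, ← comp, comp_X] at this
  have hN : 1 < Fintype.card F ^ m := Nat.one_lt_pow hm.ne' Fintype.one_lt_card
  have hP0 : ((X : (AdjoinRoot f)[X]) ^ (Fintype.card F ^ m) - X) ≠ 0 :=
    FiniteField.X_pow_card_sub_X_ne_zero _ hN
  have hle : Fintype.card (AdjoinRoot f) ≤ Fintype.card F ^ m := by
    classical
    have h1 : (Finset.univ : Finset (AdjoinRoot f)) ⊆
        ((X : (AdjoinRoot f)[X]) ^ (Fintype.card F ^ m) - X).roots.toFinset := fun x _ => by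
      rw [Multiset.mem_toFinset, mem_roots hP0, IsRoot.def, eval_sub, eval_pow, eval_X, hfix,
        sub_self]
    refine le_trans (Finset.card_le_card h1) ((Multiset.toFinset_card_le _).trans ?_)
    refine (Polynomial.card_roots' _).trans ?_
    rw [FiniteField.X_pow_card_sub_X_natDegree_eq _ hN]
  rw [Module.card_eq_pow_finrank (K := F) (V := AdjoinRoot f),
    (AdjoinRoot.powerBasis hfi.ne_zero).finrank, AdjoinRoot.powerBasis_dim] at hle
  exact (Nat.pow_le_pow_iff_right Fintype.one_lt_card).1 hle

open Classical in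
theorem filter_minpoly_eq (α : Lˣ) :
    (Finset.univ.filter fun β : Lˣ => minpoly F (β : L) = minpoly F (α : L)) =
      (range (minpoly F (α : L)).natDegree).image (fun i => frobU (F := F) i α) ∧
    Set.InjOn (fun i => frobU (F := F) i α) (range (minpoly F (α : L)).natDegree : Set ℕ) := by
  classical
  set f := minpoly F (α : L) with hf
  set d := f.natDegree with hd
  have hf0 : f ≠ 0 := (minpoly_irreducible (F := F) (α : L)).ne_zero
  have hinj : Set.InjOn (fun i => frobU (F := F) i α) (range d : Set ℕ) := by
    have key : ∀ i j, i < j → j < d → frobU (F := F) i α ≠ frobU (F := F) j α := by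
      intro i j hij hj h
      rw [show j = (j - i) + i by omega, frobU_add] at h
      have := natDegree_le_of_frobU_eq (F := F) (m := j - i) (by omega) α
        (frobU_injective i h).symm
      rw [← hd] at this
      omega
    intro i hi j hj h
    rw [Finset.coe_range, Set.mem_Iio] at hi hj
    rcases lt_trichotomy i j with h1 | h1 | h1
    · exact absurd h (key i j h1 hj)
    · exact h1
    · exact absurd h.symm (key j i h1 hi)
  refine ⟨(Finset.eq_of_subset_of_card_le ?_ ?_).symm, hinj⟩
  · intro β hβ
    obtain ⟨i, -, rfl⟩ := Finset.mem_image.1 hβ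
    exact Finset.mem_filter.2 ⟨Finset.mem_univ _, minpoly_frobU i α⟩
  · rw [Finset.card_image_of_injOn hinj, Finset.card_range]
    set s := Finset.univ.filter fun β : Lˣ => minpoly F (β : L) = f
    have h1 : s.image (fun β : Lˣ => (β : L)) ⊆ ((f.map (algebraMap F L)).roots).toFinset := by
      intro x hx
      obtain ⟨β, hβ, rfl⟩ := Finset.mem_image.1 hx
      rw [Multiset.mem_toFinset, mem_roots (map_ne_zero hf0), IsRoot.def, ← eval₂_eq_eval_map,
        ← aeval_def, ← (Finset.mem_filter.1 hβ).2, minpoly.aeval]
    rw [← Finset.card_image_of_injective s Units.val_injective]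
    refine (Finset.card_le_card h1).trans ((Multiset.toFinset_card_le _).trans ?_)
    exact (Polynomial.card_roots' _).trans natDegree_map_le

theorem cusA_coe_eq_zero_of_not_bijective {f : F[X]} (hf : f.coeff 0 ≠ 0) (g : Module.End F V)
    (hg : ¬ Function.Bijective g) : cusA f g = 0 := by
  rw [cusA, if_neg]
  intro hn
  refine hg ?_
  have hinj : Function.Injective g := by
    refine (injective_iff_map_eq_zero g).2 fun v hv => ?_
    have h1 : aeval g f v = f.coeff 0 • v := by
      rw [aeval_eq_sum_range, LinearMap.sum_apply, Finset.sum_range_succ', Finset.sum_eq_zero]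
      · simp
      · intro i _
        rw [LinearMap.smul_apply, pow_succ, Module.End.mul_apply, hv, map_zero, smul_zero]
    obtain ⟨e, he⟩ := hn
    have h2 : ∀ e, (aeval g f ^ e) v = f.coeff 0 ^ e • v := by
      intro e
      induction e with
      | zero => simp
      | succ e ih => rw [pow_succ', Module.End.mul_apply, ih, map_smul, h1, smul_smul, pow_succ]
    have h3 := h2 e
    rw [he, LinearMap.zero_apply] at h3
    exact (smul_eq_zero.1 h3.symm).resolve_left (pow_ne_zero _ hf)
  exact ⟨hinj, LinearMap.injective_iff_surjective.1 hinj⟩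

theorem cusA_mul_eq_zero [Nontrivial V] {α β : L} (h : minpoly F α ≠ minpoly F β)
    (g : Module.End F V) : cusA (minpoly F α) g * cusA (minpoly F β) g = 0 := by
  haveI : Module.Finite F L := Module.Finite.of_finite
  by_contra hne
  obtain ⟨h1, h2⟩ := mul_ne_zero_iff.1 hne
  have hn1 : IsNilpotent (aeval g (minpoly F α)) := by
    by_contra hh; exact h1 (by rw [cusA, if_neg hh])
  have hn2 : IsNilpotent (aeval g (minpoly F β)) := by
    by_contra hh; exact h2 (by rw [cusA, if_neg hh])
  have hcop : IsCoprime (minpoly F α) (minpoly F β) := by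
    refine (minpoly_irreducible α).coprime_iff_not_dvd.2 fun hd => h ?_
    exact eq_of_monic_of_associated (minpoly.monic (Algebra.IsIntegral.isIntegral _))
      (minpoly.monic (Algebra.IsIntegral.isIntegral _))
      ((minpoly_irreducible α).associated_of_dvd (minpoly_irreducible β) hd)
  obtain ⟨a, b, hab⟩ := hcop
  have hnil : IsNilpotent (aeval g (1 : F[X])) := by
    rw [← hab, map_add, map_mul, map_mul]
    refine Commute.isNilpotent_add ?_ ((Commute.all a _).map (aeval g) |>.isNilpotent_mul_left hn1)
      ((Commute.all b _).map (aeval g) |>.isNilpotent_mul_left hn2)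
    rw [← map_mul, ← map_mul]
    exact (Commute.all _ _).map (aeval g)
  rw [map_one] at hnil
  exact not_isNilpotent_one hnil

theorem sum_equiv_eq_sum_end [Fintype (V ≃ₗ[F] V)] [Fintype (Module.End F V)]
    {f : F[X]} (hf : f.coeff 0 ≠ 0) :
    ∑ g : V ≃ₗ[F] V, cusA f (g : Module.End F V) * cusA f (g : Module.End F V) =
      ∑ g : Module.End F V, cusA f g * cusA f g := by
  classical
  rw [← Finset.sum_image (f := fun g : Module.End F V => cusA f g * cusA f g)
    (fun a _ b _ h => LinearEquiv.toLinearMap_injective h)]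
  refine Finset.sum_subset (Finset.subset_univ _) fun g _ hg => ?_
  rw [cusA_coe_eq_zero_of_not_bijective hf g, mul_zero]
  intro hb
  exact hg (Finset.mem_image.2 ⟨LinearEquiv.ofBijective g hb, Finset.mem_univ _, rfl⟩)

/-- **The inner product of two cuspidal functions.** -/
theorem classInner_cuspidal [Fintype (V ≃ₗ[F] V)] {n : ℕ} (hn : finrank F V = n) (hn0 : 0 < n)
    (θ θ' : Lˣ →* ℂˣ) :
    ((Fintype.card F : ℂ) ^ n - 1) * Cfsg.classInner
      (fun g : V ≃ₗ[F] V => cuspidal θ (g : Module.End F V))
      (fun g : V ≃ₗ[F] V => cuspidal θ' (g : Module.End F V)) =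
      ∑ i ∈ range n, ∑ α ∈ Finset.univ.filter (fun α : Lˣ => frobU (F := F) n α = α),
        (θ α : ℂ) * conj (θ' (frobU (F := F) i α) : ℂ) := by
  classical
  haveI : Finite V := Module.finite_of_finite F
  haveI : Nontrivial V := Module.nontrivial_of_finrank_pos (R := F) (by omega)
  haveI : Finite (Module.End F V) := Finite.of_injective _ DFunLike.coe_injective
  letI : Fintype (Module.End F V) := Fintype.ofFinite _
  haveI : Module.Finite F L := Module.Finite.of_finite
  set q : ℂ := (Fintype.card F : ℂ) with hq
  set G : ℕ := Nat.card (V ≃ₗ[F] V) with hG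
  have hG0 : (G : ℂ) ≠ 0 := Nat.cast_ne_zero.2 Nat.card_pos.ne'
  set f : Lˣ → F[X] := fun α => minpoly F (α : L) with hf
  have hterm : ∀ α : Lˣ, (q ^ n - 1) * ∑ g : V ≃ₗ[F] V,
      ((cusA (f α) (g : Module.End F V) * cusA (f α) (g : Module.End F V) : ℤ) : ℂ) =
        if frobU (F := F) n α = α then (n : ℂ) * G / (f α).natDegree else 0 := by
    intro α
    have hd0 : 0 < (f α).natDegree := (minpoly_irreducible (α : L)).natDegree_pos
    have hiff : (f α).natDegree ∣ n ↔ frobU (F := F) n α = α := by
      have hper : ∀ m, frobU (F := F) ((f α).natDegree * m) α = α := by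
        intro m
        induction m with
        | zero => simp [frobU]
        | succ m ih => rw [Nat.mul_succ, frobU_add, ih, frobU_natDegree]
      constructor
      · rintro ⟨m, rfl⟩
        exact hper m
      · intro h
        rw [← Nat.div_add_mod n (f α).natDegree, frobU_add, hper] at h
        rw [Nat.dvd_iff_mod_eq_zero]
        by_contra hne
        have := natDegree_le_of_frobU_eq (F := F) (Nat.pos_of_ne_zero hne) α h
        have h2 := Nat.mod_lt n hd0
        simp only [hf] at h2 this
        omega
    have hc0 : (f α).coeff 0 ≠ 0 :=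
      minpoly.coeff_zero_ne_zero (Algebra.IsIntegral.isIntegral _) α.ne_zero
    have h1 := sum_cusA_sq (V := V) (minpoly_irreducible (F := F) (α : L)) (by omega)
    rw [hn, ← sum_equiv_eq_sum_end hc0] at h1
    have h2 := congrArg (fun z : ℤ => (z : ℂ)) h1
    simp only [Int.cast_mul, Int.cast_sub, Int.cast_pow, Int.cast_natCast, Int.cast_one,
      Int.cast_sum, apply_ite (fun z : ℤ => (z : ℂ)), Int.cast_zero, ← hG, ← hq] at h2
    have hd : ((f α).natDegree : ℂ) ≠ 0 := Nat.cast_ne_zero.2 hd0.ne'
    simp only [Int.cast_mul]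
    by_cases hc : (f α).natDegree ∣ n
    · rw [if_pos hc] at h2
      rw [if_pos (hiff.1 hc), eq_div_iff hd, ← h2]
      ring
    · rw [if_neg hc] at h2
      rw [if_neg (mt hiff.2 hc)]
      refine (mul_eq_zero.1 (?_ : ((f α).natDegree : ℂ) * _ = 0)).resolve_left hd
      rw [← h2]
      ring
  have hpair : ∀ α β : Lˣ, ∑ g : V ≃ₗ[F] V,
      ((cusA (f α) (g : Module.End F V) * cusA (f β) (g : Module.End F V) : ℤ) : ℂ) =
      if f β = f α then ∑ g : V ≃ₗ[F] V,
        ((cusA (f α) (g : Module.End F V) * cusA (f α) (g : Module.End F V) : ℤ) : ℂ) else 0 := by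
    intro α β
    split_ifs with h
    · rw [h]
    · refine Finset.sum_eq_zero fun g _ => ?_
      rw [hf, cusA_mul_eq_zero (Ne.symm h), Int.cast_zero]
  calc (q ^ n - 1) * Cfsg.classInner
        (fun g : V ≃ₗ[F] V => cuspidal θ (g : Module.End F V))
        (fun g : V ≃ₗ[F] V => cuspidal θ' (g : Module.End F V))
      = (G : ℂ)⁻¹ * ∑ α : Lˣ, ∑ β : Lˣ, (θ α : ℂ) * conj (θ' β : ℂ) * ((q ^ n - 1) *
          ∑ g : V ≃ₗ[F] V,
            ((cusA (f α) (g : Module.End F V) * cusA (f β) (g : Module.End F V) : ℤ) : ℂ)) := by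
        simp only [Cfsg.classInner, cuspidal, map_sum, map_mul, Int.cast_mul, map_intCast,
          Finset.sum_mul, Finset.mul_sum, ← hG]
        conv_rhs => rw [Finset.sum_comm]
        rw [Finset.sum_comm]
        refine Finset.sum_congr rfl fun α _ => ?_
        rw [Finset.sum_comm]
        refine Finset.sum_congr rfl fun β _ => Finset.sum_congr rfl fun g _ => ?_
        simp only [hf]
        ring
    _ = ∑ α ∈ Finset.univ.filter (fun α : Lˣ => frobU (F := F) n α = α),
          (θ α : ℂ) * ((n : ℂ) / (f α).natDegree *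
            ∑ β ∈ Finset.univ.filter (fun β : Lˣ => f β = f α), conj (θ' β : ℂ)) := by
        rw [Finset.mul_sum, Finset.sum_filter]
        refine Finset.sum_congr rfl fun α _ => ?_
        rw [Finset.sum_congr rfl fun β _ => by
          rw [hpair α β, mul_ite, mul_zero, hterm α, mul_ite, mul_zero]]
        rw [← Finset.sum_filter]
        split_ifs with hc
        · rw [Finset.mul_sum, Finset.mul_sum, Finset.mul_sum]
          refine Finset.sum_congr rfl fun β _ => ?_
          field_simp
        · simp
    _ = _ := by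
        rw [Finset.sum_comm]
        refine Finset.sum_congr rfl fun α hα => ?_
        rw [← Finset.mul_sum]
        congr 1
        simp only [hf]
        obtain ⟨himg, hinj⟩ := filter_minpoly_eq (F := F) α
        rw [himg, Finset.sum_image hinj]
        set d := (minpoly F (α : L)).natDegree with hd
        have hd0 : 0 < d := (minpoly_irreducible (α : L)).natDegree_pos
        have hper : ∀ m, frobU (F := F) (d * m) α = α := by
          intro m
          induction m with
          | zero => simp [frobU]
          | succ m ih => rw [Nat.mul_succ, frobU_add, ih, hd, frobU_natDegree]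
        have hdvd : d ∣ n := by
          have h := (Finset.mem_filter.1 hα).2
          rw [← Nat.div_add_mod n d, frobU_add, hper] at h
          rw [Nat.dvd_iff_mod_eq_zero]
          by_contra hne
          have := natDegree_le_of_frobU_eq (F := F) (Nat.pos_of_ne_zero hne) α h
          have h2 := Nat.mod_lt n hd0
          omega
        obtain ⟨m, hm⟩ := hdvd
        have h1 := sum_range_periodic
          (fun i => conj (θ' (frobU (F := F) i α) : ℂ)) (d := d) (fun i => by
            rw [Nat.add_comm i d, frobU_add, hd, frobU_natDegree]) m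
        rw [hm, h1, Nat.cast_mul, mul_div_cancel_left₀ _ (Nat.cast_ne_zero.2 hd0.ne')]

/-- The cuspidal function on a coset of a unipotent radical through the identity. -/
theorem cuspidal_one_add [Nontrivial V] (θ : Lˣ →* ℂˣ) (N : Module.End F V)
    (hN : IsNilpotent N) :
    cuspidal θ (1 + N) = ((cusC (Fintype.card F : ℤ) (finrank F (LinearMap.ker N)) : ℤ) : ℂ) := by
  classical
  haveI : Module.Finite F L := Module.Finite.of_finite
  have hm : minpoly F ((1 : Lˣ) : L) = X - C 1 := by
    rw [Units.val_one, ← map_one (algebraMap F L)]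
    exact minpoly.eq_X_sub_C L 1
  have ha : aeval (1 + N) (minpoly F ((1 : Lˣ) : L)) = N := by
    rw [hm, map_sub, aeval_X, aeval_C, map_one, add_sub_cancel_left]
  have hone : cusA (minpoly F ((1 : Lˣ) : L)) (1 + N) =
      cusC (Fintype.card F : ℤ) (finrank F (LinearMap.ker N)) := by
    rw [cusA, ell, ha, if_pos hN, hm, natDegree_X_sub_C, pow_one, Nat.div_one]
  have hother : ∀ α : Lˣ, α ≠ 1 → cusA (minpoly F (α : L)) (1 + N) = 0 := by
    intro α hα
    have hne : minpoly F (α : L) ≠ minpoly F ((1 : Lˣ) : L) := by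
      intro h
      apply hα
      refine Units.ext ?_
      have h0 := minpoly.aeval F (α : L)
      rw [h, hm, map_sub, aeval_X, aeval_C, map_one, sub_eq_zero] at h0
      rw [h0, Units.val_one]
    have h1 := cusA_mul_eq_zero hne (1 + N)
    rw [hone, mul_eq_zero] at h1
    refine h1.resolve_right ?_
    rw [cusC]
    refine Finset.prod_ne_zero_iff.2 fun i _ => sub_ne_zero.2 (ne_of_lt ?_)
    exact_mod_cast Nat.one_lt_pow i.succ_ne_zero (Fintype.one_lt_card (α := F))
  rw [cuspidal, Finset.sum_eq_single (1 : Lˣ), hone, map_one, Units.val_one, one_mul]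
  · intro α _ hα
    rw [hother α hα, Int.cast_zero, mul_zero]
  · simp

/-- **Cuspidality**: the sums over unipotent radicals vanish. -/
theorem sum_cuspidal_radical [Fintype (V ≃ₗ[F] V)] (θ : Lˣ →* ℂˣ) {U : Submodule F V}
    (hU0 : U ≠ ⊥) (hU1 : U ≠ ⊤) (P : (V ≃ₗ[F] V) → Prop) [DecidablePred P]
    (hP : ∀ g : V ≃ₗ[F] V, P g ↔ (∀ v, g v - v ∈ U) ∧ ∀ u ∈ U, g u = u) :
    ∑ g : V ≃ₗ[F] V, (if P g then cuspidal θ (g : Module.End F V) else 0) = 0 := by
  classical
  haveI : Finite V := Module.finite_of_finite F
  haveI : Finite (V ⧸ U) := Module.finite_of_finite F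
  haveI : Nontrivial V := by
    obtain ⟨u, -, hu⟩ := Submodule.exists_mem_ne_zero_of_ne_bot hU0
    exact ⟨u, 0, hu⟩
  haveI : Finite ((V ⧸ U) →ₗ[F] U) := Finite.of_injective _ DFunLike.coe_injective
  letI : Fintype ((V ⧸ U) →ₗ[F] U) := Fintype.ofFinite _
  set j : ((V ⧸ U) →ₗ[F] U) → Module.End F V := fun X => U.subtype ∘ₗ X ∘ₗ U.mkQ with hj
  have hjj : ∀ X Y, j X * j Y = 0 := fun X Y => LinearMap.ext fun v => by
    simp only [hj, Module.End.mul_apply, LinearMap.comp_apply, Submodule.mkQ_apply,
      Submodule.subtype_apply, LinearMap.zero_apply]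
    rw [(Submodule.Quotient.mk_eq_zero U).2 (Submodule.coe_mem _), map_zero, ZeroMemClass.coe_zero]
  have hnil : ∀ X, IsNilpotent (j X) := fun X => ⟨2, by rw [pow_two, hjj]⟩
  set e : ((V ⧸ U) →ₗ[F] U) → (V ≃ₗ[F] V) := fun X =>
    LinearEquiv.ofLinearMap (1 + j X) (1 - j X)
      (by
        rw [← Module.End.mul_eq_comp, ← Module.End.one_eq_id]
        simp [mul_sub, add_mul, hjj])
      (by
        rw [← Module.End.mul_eq_comp, ← Module.End.one_eq_id]
        simp [sub_mul, mul_add, hjj]) with he
  have hval : ∀ X v, e X v = v + j X v := fun X v => rfl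
  rw [← Finset.sum_filter]
  have hstep : ∑ g ∈ Finset.univ.filter (fun g => P g), cuspidal θ (g : Module.End F V) =
      ∑ X : (V ⧸ U) →ₗ[F] U, cuspidal θ (1 + j X) := by
    symm
    refine Finset.sum_bij (fun X _ => e X) ?_ ?_ ?_ fun X _ => rfl
    · intro X _
      refine Finset.mem_filter.2 ⟨Finset.mem_univ _, (hP _).2 ⟨fun v => ?_, fun u hu => ?_⟩⟩
      · rw [hval, add_sub_cancel_left]
        exact Submodule.coe_mem _
      · rw [hval, add_eq_left]
        simp only [hj, LinearMap.comp_apply, Submodule.mkQ_apply, Submodule.subtype_apply]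
        rw [(Submodule.Quotient.mk_eq_zero U).2 hu, map_zero, ZeroMemClass.coe_zero]
    · intro X _ Y _ h
      refine Submodule.linearMap_qext U (LinearMap.ext fun v => Subtype.ext ?_)
      have := LinearEquiv.congr_fun h v
      rw [hval, hval, add_right_inj] at this
      exact this
    · intro g hg
      obtain ⟨h1, h2⟩ := (hP g).1 (Finset.mem_filter.1 hg).2
      refine ⟨U.liftQ (LinearMap.codRestrict U ((g : V →ₗ[F] V) - LinearMap.id) h1) ?_,
        Finset.mem_univ _, ?_⟩
      · intro u hu
        refine Subtype.ext ?_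
        simp [h2 u hu]
      · refine LinearEquiv.ext fun v => ?_
        rw [hval]
        change v + ((g : V →ₗ[F] V) v - v) = g v
        simp
  rw [hstep]
  have h := sum_translate (N := (0 : Module.End F V)) hU0 hU1 (fun v _ => U.zero_mem)
  simp only [zero_add] at h
  have h2 := congrArg (fun z : ℤ => (z : ℂ)) h
  simp only [Int.cast_sum, Int.cast_zero] at h2
  rw [← h2]
  refine Finset.sum_congr rfl fun X _ => ?_
  rw [cuspidal_one_add θ _ (hnil X), nilW, if_pos (hnil X)]

/-- The value at the identity. -/
theorem cuspidal_one [Nontrivial V] (θ : Lˣ →* ℂˣ) :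
    cuspidal θ (1 : Module.End F V) = ((cusC (Fintype.card F : ℤ) (finrank F V) : ℤ) : ℂ) := by
  have h := cuspidal_one_add θ (0 : Module.End F V) IsNilpotent.zero
  rwa [add_zero, LinearMap.ker_zero, finrank_top] at h

end CfsgLib.CuspidalGL
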