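import Cfsg.Agent.CuspidalGL.Radical
import Cfsg.Agent.CuspidalGL.Congr

/-!
# Cuspidal characters of `GL_n`: moments of the weight over nilpotent operators

`∑ nilW N = |GL| / (q^k - 1)` and `∑ (nilW N)^2 = k |GL| / (q^k - 1)`.
-/

set_option autoImplicit false
set_option linter.style.haveILetI false

namespace CfsgLib.CuspidalGL

open Finset Polynomial Module

universe u v

variable {F : Type u} [Field F] [Fintype F]
  {V : Type v} [AddCommGroup V] [Module F V] [FiniteDimensional F V]

omit [FiniteDimensional F V] in
theorem nilW_mul_const (N : Module.End F V) (h : ¬ IsNilpotent N) : nilW N = 0 := by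
  simp [nilW, h]

open Classical in
/-- Against anything read off the quotient by a proper non-zero subspace the weight sums to
zero. -/
theorem sum_inv_mul [Fintype (Module.End F V)] {U : Submodule F V} (hU0 : U ≠ ⊥) (hU1 : U ≠ ⊤)
    (G : Module.End F (V ⧸ U) → ℤ) :
    ∑ N ∈ Finset.univ.filter (fun N : Module.End F V => U ≤ U.comap N),
      nilW N * G (quotMap N U) = 0 := by
  haveI : Finite V := Module.finite_of_finite F
  haveI : Finite (V ⧸ U) := Module.finite_of_finite F
  haveI : Finite ((V ⧸ U) →ₗ[F] U) := Finite.of_injective _ DFunLike.coe_injective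
  letI : Fintype ((V ⧸ U) →ₗ[F] U) := Fintype.ofFinite _
  set s := Finset.univ.filter (fun N : Module.End F V => U ≤ U.comap N) with hs
  have key : (Fintype.card ((V ⧸ U) →ₗ[F] U) : ℤ) * ∑ N ∈ s, nilW N * G (quotMap N U) = 0 := by
    calc (Fintype.card ((V ⧸ U) →ₗ[F] U) : ℤ) * ∑ N ∈ s, nilW N * G (quotMap N U)
        = ∑ X : (V ⧸ U) →ₗ[F] U, ∑ N ∈ s, nilW N * G (quotMap N U) := by
          rw [Finset.sum_const, Finset.card_univ, nsmul_eq_mul]
      _ = ∑ X : (V ⧸ U) →ₗ[F] U, ∑ N ∈ s,
            nilW (N + U.subtype ∘ₗ X ∘ₗ U.mkQ) * G (quotMap N U) := by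
          refine Finset.sum_congr rfl fun X _ => ?_
          symm
          refine Finset.sum_nbij' (fun N => N + U.subtype ∘ₗ X ∘ₗ U.mkQ)
            (fun N => N - U.subtype ∘ₗ X ∘ₗ U.mkQ) ?_ ?_
            (fun N _ => add_sub_cancel_right _ _) (fun N _ => sub_add_cancel _ _) ?_
          · intro N hN
            rw [hs, Finset.mem_filter] at hN ⊢
            exact ⟨Finset.mem_univ _, translate_inv hN.2 X⟩
          · intro N hN
            rw [hs, Finset.mem_filter] at hN ⊢
            refine ⟨Finset.mem_univ _, ?_⟩
            have := translate_inv hN.2 (-X)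
            rwa [LinearMap.neg_comp, LinearMap.comp_neg, ← sub_eq_add_neg] at this
          · intro N hN
            rw [hs, Finset.mem_filter] at hN
            rw [quotMap_translate hN.2 X]
      _ = 0 := by
          rw [Finset.sum_comm]
          refine Finset.sum_eq_zero fun N hN => ?_
          rw [hs, Finset.mem_filter] at hN
          rw [← Finset.sum_mul, sum_translate hU0 hU1 hN.2, zero_mul]
  exact (mul_eq_zero.1 key).resolve_left (Int.natCast_ne_zero.2 Fintype.card_ne_zero)

/-- The shift on tuples. -/
def shiftDown (k : ℕ) : Module.End F (Fin k → F) where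
  toFun x i := if h : i.val + 1 < k then x ⟨i.val + 1, h⟩ else 0
  map_add' x y := by funext i; dsimp only [Pi.add_apply]; split_ifs <;> simp
  map_smul' c x := by funext i; dsimp only [Pi.smul_apply, RingHom.id_apply]; split_ifs <;> simp

omit [Fintype F] in
theorem shiftDown_pow (k : ℕ) : ∀ (i : ℕ) (x : Fin k → F) (j : Fin k),
    ((shiftDown (F := F) k) ^ i) x j = if h : j.val + i < k then x ⟨j.val + i, h⟩ else 0
  | 0, x, j => by rw [dif_pos (by simp)]; rfl
  | i + 1, x, j => by
    rw [pow_succ', Module.End.mul_apply]
    change (if h : j.val + 1 < k then _ else _) = _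
    split_ifs with h1 h2 h2
    · rw [shiftDown_pow k i, dif_pos (by simp only; omega)]
      exact congrArg x (Fin.ext (by simp only; omega))
    · rw [shiftDown_pow k i, dif_neg (by simp only; omega)]
    · omega
    · rfl

omit [Fintype F] in
/-- Regular nilpotent operators with a cyclic functional correspond to bases. -/
theorem card_cyclic_pairs (k : ℕ) (hk : finrank F V = k) (hk0 : 0 < k) :
    Nat.card {p : Module.End F V × (V →ₗ[F] Fin 1 → F) // IsNilpotent p.1 ∧ core p.1 p.2 = ⊥} =
      Nat.card (V ≃ₗ[F] (Fin k → F)) := by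
  set z : Fin k := ⟨0, hk0⟩ with hz
  set π : (Fin k → F) →ₗ[F] Fin 1 → F := LinearMap.pi fun _ => LinearMap.proj z with hπ
  set lin : Module.End F V × (V →ₗ[F] Fin 1 → F) → (V →ₗ[F] Fin k → F) := fun p =>
    LinearMap.pi fun i : Fin k => (LinearMap.proj (0 : Fin 1)) ∘ₗ p.2 ∘ₗ (p.1 ^ i.val) with hlin
  have hlin_apply : ∀ p v (i : Fin k), lin p v i = p.2 ((p.1 ^ i.val) v) 0 := fun _ _ _ => rfl
  have hinj : ∀ p : Module.End F V × (V →ₗ[F] Fin 1 → F), IsNilpotent p.1 → core p.1 p.2 = ⊥ →
      Function.Injective (lin p) := by
    intro p hn hc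
    refine (injective_iff_map_eq_zero _).2 fun v hv => ?_
    have : v ∈ core p.1 p.2 := by
      refine mem_core.2 fun i => funext fun j => ?_
      rw [Subsingleton.elim j 0, Pi.zero_apply]
      by_cases hi : i < k
      · have := congrFun hv ⟨i, hi⟩
        rwa [hlin_apply] at this
      · have h0 := pow_finrank_eq_zero hn
        rw [hk] at h0
        have : p.1 ^ i = 0 := by
          rw [show i = k + (i - k) by omega, pow_add, h0, zero_mul]
        rw [this, LinearMap.zero_apply, map_zero, Pi.zero_apply]
    rwa [hc, Submodule.mem_bot] at this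
  have hpow : ∀ (e : V ≃ₗ[F] (Fin k → F)) (i : ℕ) (v : V),
      e (((e.symm.toLinearMap ∘ₗ shiftDown k ∘ₗ e.toLinearMap : Module.End F V) ^ i) v) =
        ((shiftDown k) ^ i) (e v) := by
    intro e i
    induction i with
    | zero => intro v; rfl
    | succ i ih =>
      intro v
      rw [pow_succ', pow_succ', Module.End.mul_apply, Module.End.mul_apply, ← ih]
      simp
  have hfin : finrank F V = finrank F (Fin k → F) := by rw [Module.finrank_fin_fun, hk]
  refine Nat.card_congr
    { toFun := fun p => LinearMap.linearEquivOfInjective (lin p.1) (hinj p.1 p.2.1 p.2.2) hfin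
      invFun := fun e => ⟨(e.symm.toLinearMap ∘ₗ shiftDown k ∘ₗ e.toLinearMap,
        π ∘ₗ e.toLinearMap), ?_, ?_⟩
      left_inv := ?_
      right_inv := ?_ }
  · refine ⟨k, LinearMap.ext fun v => e.injective ?_⟩
    dsimp only
    rw [hpow, LinearMap.zero_apply, map_zero]
    funext j
    rw [shiftDown_pow, dif_neg (by omega), Pi.zero_apply]
  · refine (Submodule.eq_bot_iff _).2 fun v hv => e.injective ?_
    rw [map_zero]
    funext j
    have := congrFun (mem_core.1 hv j.val) 0
    dsimp only at this
    rw [LinearMap.comp_apply, hπ, LinearMap.pi_apply, LinearMap.proj_apply, LinearEquiv.coe_coe,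
      hpow, shiftDown_pow, dif_pos (show z.val + j.val < k by simp [hz]), Pi.zero_apply] at this
    rw [Pi.zero_apply, ← this]
    exact congrArg (e v) (Fin.ext (by simp [hz]))
  · rintro ⟨⟨N, φ⟩, hn, hc⟩
    refine Subtype.ext (Prod.ext ?_ ?_)
    · refine LinearMap.ext fun v => ?_
      simp only [LinearMap.comp_apply, LinearEquiv.coe_coe]
      rw [LinearEquiv.symm_apply_eq]
      funext j
      rw [LinearMap.linearEquivOfInjective_apply, LinearMap.linearEquivOfInjective_apply]
      change (if h : j.val + 1 < k then _ else _) = _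
      rw [hlin_apply]
      dsimp only
      split_ifs with h
      · rw [hlin_apply, pow_succ, Module.End.mul_apply]
      · have h0 := pow_finrank_eq_zero hn
        rw [hk] at h0
        rw [← Module.End.mul_apply, ← pow_succ,
          show j.val + 1 = k by omega, h0, LinearMap.zero_apply, map_zero, Pi.zero_apply]
    · refine LinearMap.ext fun v => funext fun j => ?_
      rw [Subsingleton.elim j 0]
      simp only [hπ, LinearMap.comp_apply, LinearEquiv.coe_coe, LinearMap.pi_apply,
        LinearMap.proj_apply]
      rw [LinearMap.linearEquivOfInjective_apply, hlin_apply]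
      rfl
  · intro e
    refine LinearEquiv.ext fun v => funext fun j => ?_
    rw [LinearMap.linearEquivOfInjective_apply, hlin_apply]
    dsimp only
    rw [LinearMap.comp_apply, hπ, LinearMap.pi_apply, LinearMap.proj_apply, LinearEquiv.coe_coe,
      hpow, shiftDown_pow, dif_pos (show z.val + j.val < k by simp [hz])]
    exact congrArg (e v) (Fin.ext (by simp [hz]))

open Classical in
/-- The first moment. -/
theorem sum_nilW [Fintype (Module.End F V)] (hV : 0 < finrank F V) :
    ((Fintype.card F : ℤ) ^ finrank F V - 1) * ∑ N : Module.End F V, nilW N =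
      Nat.card (V ≃ₗ[F] (Fin (finrank F V) → F)) := by
  haveI : Finite V := Module.finite_of_finite F
  haveI : Nontrivial V := Module.nontrivial_of_finrank_pos hV
  set k := finrank F V with hk
  set G : ∀ U : Submodule F V, Module.End F (V ⧸ U) → ℤ := fun U b =>
    (Nat.card {ψ : (V ⧸ U) →ₗ[F] Fin 1 → F // core b ψ = ⊥} : ℤ) with hG
  have hcount : ∀ N : Module.End F V,
      (Fintype.card F : ℤ) ^ k = 1 + ∑ U ∈ properInv N, G U (quotMap N U) := by
    intro N
    have htop : (⊤ : Submodule F V) ∉ properInv N := fun h => (mem_properInv.1 h).2 rfl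
    have h1 := card_eq_sum_core N (⊥ : Submodule F V) bot_le 1 (insert ⊤ (properInv N))
      fun U => by
        rw [Finset.mem_insert, mem_properInv]
        constructor
        · rintro (rfl | h)
          · exact ⟨fun v _ => trivial, bot_le⟩
          · exact ⟨h.1, bot_le⟩
        · exact fun h => (eq_or_ne U ⊤).imp_right fun h' => ⟨h.1, h'⟩
    rw [Finset.sum_insert htop] at h1
    have h2 : Nat.card {φ : V →ₗ[F] Fin 1 → F // (⊥ : Submodule F V) ≤ LinearMap.ker φ} =
        Fintype.card F ^ k := by
      rw [Nat.card_congr (Equiv.subtypeUnivEquiv fun φ => bot_le),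
        Module.natCard_eq_pow_finrank (K := F), Module.finrank_linearMap, Module.finrank_fin_fun,
        mul_one, Nat.card_eq_fintype_card]
    have h3 : Nat.card {ψ : (V ⧸ (⊤ : Submodule F V)) →ₗ[F] Fin 1 → F //
        core (quotMap N ⊤) ψ = ⊥} = 1 := by
      rw [Nat.card_eq_one_iff_unique]
      exact ⟨⟨fun a b => Subtype.ext (LinearMap.ext fun x => by
        rw [Subsingleton.elim x 0, map_zero, map_zero])⟩,
        ⟨⟨0, Subsingleton.elim _ _⟩⟩⟩
    rw [h2, h3] at h1
    simp only [hG]
    exact_mod_cast h1
  have hsum : ∑ N : Module.End F V, nilW N * ((Fintype.card F : ℤ) ^ k - 1) =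
      ∑ N : Module.End F V, nilW N * G ⊥ (quotMap N ⊥) := by
    calc ∑ N : Module.End F V, nilW N * ((Fintype.card F : ℤ) ^ k - 1)
        = ∑ N : Module.End F V, ∑ U ∈ properInv N, nilW N * G U (quotMap N U) :=
          Finset.sum_congr rfl fun N _ => by
            rw [hcount N, add_sub_cancel_left, Finset.mul_sum]
      _ = ∑ U ∈ (Set.toFinite {U : Submodule F V | U ≠ ⊤}).toFinset,
            ∑ N ∈ Finset.univ.filter (fun N : Module.End F V => U ≤ U.comap N),
              nilW N * G U (quotMap N U) :=
          Finset.sum_comm' fun N U => by simp [mem_properInv]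
      _ = _ := by
          rw [Finset.sum_eq_single (⊥ : Submodule F V)]
          · refine Finset.sum_congr ?_ fun _ _ => rfl
            exact Finset.filter_true_of_mem fun N _ => bot_le
          · intro U hU hne
            exact sum_inv_mul hne (by simpa using hU) (G U)
          · intro h
            exact absurd (by simp) h
  rw [mul_comm, Finset.sum_mul, hsum]
  have hcyc : ∀ N : Module.End F V, nilW N * G ⊥ (quotMap N ⊥) =
      if IsNilpotent N then
        (Nat.card {φ : V →ₗ[F] Fin 1 → F // core N φ = ⊥} : ℤ) else 0 := by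
    intro N
    split_ifs with hn
    swap
    · rw [nilW_mul_const N hn, zero_mul]
    have hG' : G ⊥ (quotMap N ⊥) =
        (Nat.card {φ : V →ₗ[F] Fin 1 → F // core N φ = ⊥} : ℤ) := by
      simp only [hG]
      norm_cast
      set e := Submodule.quotEquivOfEqBot (⊥ : Submodule F V) rfl with he
      refine Nat.card_congr (Equiv.subtypeEquiv
        ((e.arrowCongr (LinearEquiv.refl F (Fin 1 → F))).toEquiv) fun ψ => ?_)
      have hpow : ∀ i v, ((quotMap N ⊥) ^ i) (e.symm v) = e.symm ((N ^ i) v) := by
        intro i v
        rw [he, Submodule.quotEquivOfEqBot_symm_apply, Submodule.quotEquivOfEqBot_symm_apply,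
          quotMap_pow_mk bot_le]
      constructor
      · intro h
        refine (Submodule.eq_bot_iff _).2 fun v hv => e.symm.injective ?_
        have : e.symm v ∈ core (quotMap N ⊥) ψ := mem_core.2 fun i => by
          rw [hpow]
          simpa using mem_core.1 hv i
        rw [h, Submodule.mem_bot] at this
        rw [this, map_zero]
      · intro h
        refine (Submodule.eq_bot_iff _).2 fun x hx => ?_
        have : e x ∈ core N ((e.arrowCongr (LinearEquiv.refl F (Fin 1 → F))) ψ) :=
          mem_core.2 fun i => by
            have := mem_core.1 hx i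
            rw [← e.symm_apply_apply x, hpow] at this
            simpa using this
        rw [LinearEquiv.coe_toEquiv] at h
        rw [h, Submodule.mem_bot] at this
        exact e.injective (by rw [this, map_zero])
    rw [hG']
    rcases Nat.eq_zero_or_pos (Nat.card {φ : V →ₗ[F] Fin 1 → F // core N φ = ⊥}) with h0 | h0
    · rw [h0]; simp
    · obtain ⟨⟨φ, hφ⟩⟩ := (Nat.card_pos_iff.1 h0).1
      have hle : finrank F (LinearMap.ker N) ≤ 1 := by
        have hinj : Function.Injective (φ ∘ₗ (LinearMap.ker N).subtype) := by
          refine (injective_iff_map_eq_zero _).2 fun v hv => Subtype.ext ?_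
          have : (v : V) ∈ core N φ := mem_core.2 fun i => by
            rcases i with _ | i
            · simpa using hv
            · rw [pow_succ, Module.End.mul_apply, LinearMap.mem_ker.1 v.2, map_zero, map_zero]
          rwa [hφ, Submodule.mem_bot] at this
        have := LinearMap.finrank_le_finrank_of_injective hinj
        rwa [Module.finrank_fin_fun] at this
      have hge : 0 < finrank F (LinearMap.ker N) := by
        refine Nat.pos_of_ne_zero fun h0 => ?_
        obtain ⟨e, he⟩ := hn
        have hinj : Function.Injective ⇑(N ^ e) := by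
          rw [Module.End.coe_pow]
          exact (LinearMap.ker_eq_bot.1 (Submodule.finrank_eq_zero.1 h0)).iterate e
        obtain ⟨x, hx⟩ := exists_ne (0 : V)
        exact hx (hinj (by rw [he]; rfl))
      rw [nilW, if_pos hn, show finrank F (LinearMap.ker N) = 1 by omega, cusC_one, one_mul]
  rw [Finset.sum_congr rfl fun N _ => hcyc N, ← Finset.sum_filter, ← Nat.cast_sum,
    ← card_cyclic_pairs k hk.symm hV]
  norm_cast
  haveI : Finite (V →ₗ[F] Fin 1 → F) := Finite.of_injective _ DFunLike.coe_injective
  rw [← Nat.card_congr (Equiv.subtypeProdEquivSigmaSubtype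
    fun (N : Module.End F V) (φ : V →ₗ[F] Fin 1 → F) => IsNilpotent N ∧ core N φ = ⊥).symm,
    Nat.card_sigma, Finset.sum_filter]
  refine Finset.sum_congr rfl fun N _ => ?_
  split_ifs with hn
  · exact Nat.card_congr (Equiv.subtypeEquivRight fun φ => (and_iff_right hn).symm)
  · symm
    rw [Nat.card_eq_zero]
    exact Or.inl ⟨fun x => hn x.2.1⟩

open Classical in
/-- The second moment is `dim V` times the first. -/
theorem sum_nilW_sq [Fintype (Module.End F V)] (hV : 0 < finrank F V) :
    ∑ N : Module.End F V, nilW N * nilW N =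
      (finrank F V : ℤ) * ∑ N : Module.End F V, nilW N := by
  haveI : Finite V := Module.finite_of_finite F
  haveI : Nontrivial V := Module.nontrivial_of_finrank_pos hV
  symm
  calc (finrank F V : ℤ) * ∑ N : Module.End F V, nilW N
      = ∑ N : Module.End F V, ∑ U ∈ properInv N, nilW N * cusA X (quotMap N U) := by
        rw [Finset.mul_sum]
        refine Finset.sum_congr rfl fun N _ => ?_
        rw [← Finset.mul_sum, (sum_cusA X irreducible_X N).2, mul_comm]
        by_cases hn : IsNilpotent N
        · rw [mult, aeval_X, natDegree_X, Nat.div_one, pow_finrank_eq_zero hn, LinearMap.ker_zero,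
            finrank_top]
        · rw [nilW_mul_const N hn, zero_mul, zero_mul]
    _ = ∑ U ∈ (Set.toFinite {U : Submodule F V | U ≠ ⊤}).toFinset,
          ∑ N ∈ Finset.univ.filter (fun N : Module.End F V => U ≤ U.comap N),
            nilW N * cusA X (quotMap N U) :=
        Finset.sum_comm' fun N U => by simp [mem_properInv]
    _ = ∑ N : Module.End F V, nilW N * nilW N := by
        rw [Finset.sum_eq_single (⊥ : Submodule F V)]
        · rw [Finset.filter_true_of_mem fun N _ => bot_le]
          exact Finset.sum_congr rfl fun N _ => by rw [cusA_quotMap_bot, cusA_X]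
        · intro U hU hne
          exact sum_inv_mul hne (by simpa using hU) (fun b => cusA X b)
        · intro h
          exact absurd (by simp) h

end CfsgLib.CuspidalGL
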