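import Mathlib

/-!
# Cuspidal characters of `GL_n`: the arithmetic of the Jordan weight

`cusC Q l = (1 - Q)(1 - Q^2) ⋯ (1 - Q^(l-1))` is the value, up to sign, of a cuspidal character
of `GL_k` over a field of `Q` elements on a unipotent element with `l` Jordan blocks.
-/

set_option autoImplicit false

namespace CfsgLib.CuspidalGL

open Finset Polynomial

/-- `(1 - Q)(1 - Q^2) ⋯ (1 - Q^(l-1))`. -/
def cusC (Q : ℤ) (l : ℕ) : ℤ := ∏ i ∈ range (l - 1), (1 - Q ^ (i + 1))

theorem cusC_one (Q : ℤ) : cusC Q 1 = 1 := by simp [cusC]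

theorem cusC_succ (Q : ℤ) {l : ℕ} (hl : 1 ≤ l) : cusC Q (l + 1) = cusC Q l * (1 - Q ^ l) := by
  obtain ⟨m, rfl⟩ : ∃ m, l = m + 1 := ⟨l - 1, by omega⟩
  simp only [cusC, Nat.add_sub_cancel, prod_range_succ]

/-- `∏_{i<l} (X^d - Q^i) X^e`, whose values count maps injective on a socle. -/
noncomputable def injPoly (Q : ℤ) (d l e : ℕ) : ℤ[X] :=
  (∏ i ∈ range l, (X ^ d - C (Q ^ i))) * X ^ e

theorem eval_injPoly (Q : ℤ) (d l e : ℕ) (x : ℤ) :
    (injPoly Q d l e).eval x = (∏ i ∈ range l, (x ^ d - Q ^ i)) * x ^ e := by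
  simp [injPoly, eval_prod]

theorem derivative_injPoly_zero (Q : ℤ) (d : ℕ) :
    (derivative (injPoly Q d 0 0)).eval 1 = 0 := by simp [injPoly]

theorem derivative_injPoly (Q : ℤ) (d e : ℕ) {l : ℕ} (hl : 1 ≤ l) :
    (derivative (injPoly Q d l e)).eval 1 = d * cusC Q l := by
  obtain ⟨m, rfl⟩ : ∃ m, l = m + 1 := ⟨l - 1, by omega⟩
  simp only [injPoly, cusC, Nat.add_sub_cancel, prod_range_succ', pow_zero, C_1, derivative_mul,
    derivative_sub, derivative_X_pow, derivative_one, sub_zero, eval_add, eval_mul, eval_sub,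
    eval_pow, eval_X, one_pow, eval_one, sub_self, mul_zero, zero_add, mul_one, eval_C,
    eval_prod]
  ring

theorem derivative_pow_X (D : ℕ) : (derivative ((X : ℤ[X]) ^ D)).eval 1 = D := by
  rw [derivative_X_pow]
  simp

end CfsgLib.CuspidalGL
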