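import Cfsg.Agent.CuspidalGL.Nilpotent

/-!
# Cuspidal characters of `GL_n`: the square sum over the `f`-primary elements

An `f`-primary `g` is `s + N` with `f(s) = 0` and `N` nilpotent over `F[T]/f`, `s = g^Q`.
-/

set_option autoImplicit false
set_option linter.style.haveILetI false

namespace CfsgLib.CuspidalGL

open Finset Polynomial Module

universe u v

variable {F : Type u} [Field F] [Fintype F]
  {V : Type v} [AddCommGroup V] [Module F V] [FiniteDimensional F V]

omit [FiniteDimensional F V] in
theorem aeval_pow_card_pow (g : Module.End F V) (f : F[X]) (t : ℕ) :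
    aeval (g ^ (Fintype.card F ^ t)) f = aeval g f ^ (Fintype.card F ^ t) := by
  induction t generalizing g with
  | zero => simp
  | succ t ih =>
    rw [pow_succ, pow_mul, ← Polynomial.expand_aeval (Fintype.card F),
      FiniteField.expand_card, map_pow, ih, ← pow_mul]

theorem dvd_pow_card_sub_X {f : F[X]} (hf : Irreducible f) (t : ℕ) :
    f ∣ (X : F[X]) ^ (Fintype.card F ^ (f.natDegree * t)) - X := by
  haveI : Fact (Irreducible f) := ⟨hf⟩
  haveI : FiniteDimensional F (AdjoinRoot f) := (AdjoinRoot.powerBasis hf.ne_zero).finite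
  haveI : Finite (AdjoinRoot f) := Module.finite_of_finite F
  letI : Fintype (AdjoinRoot f) := Fintype.ofFinite _
  rw [← AdjoinRoot.mk_eq_zero, map_sub, map_pow, sub_eq_zero, pow_mul]
  have hc : Fintype.card (AdjoinRoot f) = Fintype.card F ^ f.natDegree := by
    rw [Module.card_eq_pow_finrank (K := F) (V := AdjoinRoot f),
      (AdjoinRoot.powerBasis hf.ne_zero).finrank, AdjoinRoot.powerBasis_dim]
  rw [← hc]
  exact FiniteField.pow_card_pow t _

omit [FiniteDimensional F V] in
theorem isNilpotent_pow_sub_self {f : F[X]} (hf : Irreducible f) (g : Module.End F V)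
    (hg : IsNilpotent (aeval g f)) (t : ℕ) :
    IsNilpotent (g ^ (Fintype.card F ^ (f.natDegree * t)) - g) := by
  obtain ⟨h, hh⟩ := dvd_pow_card_sub_X hf t
  rw [show g ^ (Fintype.card F ^ (f.natDegree * t)) - g =
    aeval g ((X : F[X]) ^ (Fintype.card F ^ (f.natDegree * t)) - X) by
      rw [map_sub, map_pow, aeval_X], hh, map_mul]
  exact ((Commute.all f h).map (aeval g)).isNilpotent_mul_right hg

variable {f : F[X]}

omit [Fintype F] [FiniteDimensional F V] in
theorem smul_root_comm [hf : Fact (Irreducible f)] {W : Type*} [AddCommGroup W] [Module F W]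
    [Module (AdjoinRoot f) W] [IsScalarTower F (AdjoinRoot f) W]
    {W' : Type*} [AddCommGroup W'] [Module F W'] [Module (AdjoinRoot f) W']
    [IsScalarTower F (AdjoinRoot f) W'] (φ : W →ₗ[F] W')
    (h : ∀ w, φ (AdjoinRoot.root f • w) = AdjoinRoot.root f • φ w) (c : AdjoinRoot f) (w : W) :
    φ (c • w) = c • φ w := by
  obtain ⟨p, rfl⟩ := AdjoinRoot.mk_surjective c
  induction p using Polynomial.induction_on' generalizing w with
  | add p p' hp hp' => rw [map_add, add_smul, add_smul, map_add, hp, hp']
  | monomial i a =>
    have hm : AdjoinRoot.mk f (monomial i a) = a • AdjoinRoot.root f ^ i := by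
      rw [← C_mul_X_pow_eq_monomial, map_mul, map_pow, AdjoinRoot.mk_X, AdjoinRoot.mk_C,
        Algebra.smul_def, AdjoinRoot.algebraMap_eq]
    rw [hm, smul_assoc, smul_assoc, map_smul]
    congr 1
    clear hm
    induction i generalizing w with
    | zero => simp
    | succ i ih => rw [pow_succ, mul_smul, mul_smul, ih, h]

open Classical in
/-- The sum over the primary elements with a given semisimple part. -/
theorem sum_cusA_sq_fibre (hf : Irreducible f) [Fact (Irreducible f)]
    [Fintype (Module.End F V)] (hV : 0 < finrank F V) {k : ℕ}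
    (hk : finrank F V = f.natDegree * k) (s : Module.End F V) (hs : aeval s f = 0) :
    ((Fintype.card F : ℤ) ^ finrank F V - 1) *
      ∑ g ∈ Finset.univ.filter (fun g : Module.End F V => IsNilpotent (aeval g f) ∧
        g ^ (Fintype.card F ^ (f.natDegree * finrank F V)) = s), cusA f g * cusA f g =
      (k : ℤ) * Nat.card {e : V ≃ₗ[F] (Fin k → AdjoinRoot f) //
        ∀ v, e (s v) = AdjoinRoot.root f • e v} := by
  set d := f.natDegree with hd
  set n := finrank F V with hn
  have hd0 : 0 < d := hf.natDegree_pos
  set Q := Fintype.card F ^ (d * n) with hQ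
  have hQn : n ≤ Q := le_trans (Nat.le_mul_of_pos_left n hd0)
    (Nat.lt_pow_self Fintype.one_lt_card).le
  set θ : AdjoinRoot f →ₐ[F] Module.End F V := Ideal.Quotient.liftₐ (Ideal.span {f})
    (aeval s) (fun p hp => by
      obtain ⟨r, rfl⟩ := Ideal.mem_span_singleton'.1 hp
      rw [map_mul, hs, mul_zero]) with hθ
  letI : Module (AdjoinRoot f) V := Module.compHom V θ.toRingHom
  have hsm : ∀ (c : AdjoinRoot f) (v : V), c • v = θ c v := fun _ _ => rfl
  haveI : IsScalarTower F (AdjoinRoot f) V := ⟨fun c k v => by
    rw [hsm, hsm, map_smul]; rfl⟩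
  have hroot : ∀ v : V, AdjoinRoot.root f • v = s v := fun v => by
    rw [hsm, show θ (AdjoinRoot.root f) = aeval s (X : F[X]) from rfl, aeval_X]
  haveI : FiniteDimensional F (AdjoinRoot f) := (AdjoinRoot.powerBasis hf.ne_zero).finite
  haveI : Finite (AdjoinRoot f) := Module.finite_of_finite F
  letI : Fintype (AdjoinRoot f) := Fintype.ofFinite _
  haveI : Finite V := Module.finite_of_finite F
  haveI : Module.Finite (AdjoinRoot f) V := Module.Finite.of_finite
  have hdim : finrank F (AdjoinRoot f) = d := by
    rw [(AdjoinRoot.powerBasis hf.ne_zero).finrank, AdjoinRoot.powerBasis_dim]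
  have hcardK : Fintype.card (AdjoinRoot f) = Fintype.card F ^ d := by
    rw [Module.card_eq_pow_finrank (K := F) (V := AdjoinRoot f), hdim]
  have hkK : finrank (AdjoinRoot f) V = k := by
    have := finrank_mul_finrank F (AdjoinRoot f) V
    rw [hdim, ← hn, hk] at this
    exact Nat.eq_of_mul_eq_mul_left hd0 this
  haveI : Finite (Module.End (AdjoinRoot f) V) := Finite.of_injective _ DFunLike.coe_injective
  letI : Fintype (Module.End (AdjoinRoot f) V) := Fintype.ofFinite _
  have hk0 : 0 < finrank (AdjoinRoot f) V := by
    rw [hkK]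
    rcases Nat.eq_zero_or_pos k with rfl | h
    · rw [mul_zero] at hk; omega
    · exact h
  haveI : Nontrivial V := Module.nontrivial_of_finrank_pos hV
  have hinjR : Function.Injective (algebraMap F (Module.End F V)) := RingHom.injective _
  obtain ⟨p, hp⟩ := CharP.exists F
  haveI : Fact p.Prime := ⟨CharP.char_is_prime F p⟩
  haveI : CharP (Module.End F V) p := charP_of_injective_algebraMap hinjR p
  obtain ⟨e, he⟩ : ∃ e : ℕ, Fintype.card F = p ^ e := by
    obtain ⟨e, _, he⟩ := FiniteField.card F p
    exact ⟨e, he⟩
  have hsQ : s ^ Q = s := by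
    have h0 := dvd_pow_card_sub_X hf n
    obtain ⟨h, hh⟩ := h0
    have := congrArg (aeval s) hh
    rw [map_mul, hs, zero_mul, map_sub, map_pow, aeval_X, sub_eq_zero] at this
    exact this
  have haddpow : ∀ N : Module.End F V, Commute s N → IsNilpotent N → (s + N) ^ Q = s := by
    intro N hc hN
    rw [hQ, he, ← pow_mul, add_pow_char_pow_of_commute p (e * (d * n)) hc, pow_mul, ← he,
      ← hQ, hsQ]
    obtain ⟨t, ht⟩ : ∃ t, Q = n + t := ⟨Q - n, by omega⟩
    rw [ht, pow_add, pow_finrank_eq_zero hN, zero_mul, add_zero]
  have hrestr : ∀ M : Module.End (AdjoinRoot f) V,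
      Commute s (M.restrictScalars F) := fun M => LinearMap.ext fun v => by
    rw [Module.End.mul_apply, Module.End.mul_apply, LinearMap.restrictScalars_apply,
      LinearMap.restrictScalars_apply, ← hroot, ← hroot, map_smul]
  have hnilR : ∀ M : Module.End (AdjoinRoot f) V,
      IsNilpotent (M.restrictScalars F : Module.End F V) ↔ IsNilpotent M := by
    intro M
    have hpw : ∀ i v, ((M.restrictScalars F : Module.End F V) ^ i) v = (M ^ i) v := by
      intro i v
      rw [Module.End.coe_pow, Module.End.coe_pow]
      rfl
    constructor <;> rintro ⟨i, hi⟩ <;> refine ⟨i, LinearMap.ext fun v => ?_⟩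
    · rw [← hpw, hi]; rfl
    · rw [hpw, hi]; rfl
  have hsum : ∑ g ∈ Finset.univ.filter (fun g : Module.End F V =>
      IsNilpotent (aeval g f) ∧ g ^ Q = s), cusA f g * cusA f g =
      ∑ M : Module.End (AdjoinRoot f) V, nilW M * nilW M := by
    rw [← Finset.sum_filter_of_ne (s := Finset.univ)
      (p := fun M : Module.End (AdjoinRoot f) V => IsNilpotent M)
      (f := fun M => nilW M * nilW M) (fun M _ hM => by
        by_contra h
        rw [nilW_mul_const M h, zero_mul] at hM
        exact hM rfl)]
    symm
    refine Finset.sum_bij (fun M _ => s + M.restrictScalars F) ?_ ?_ ?_ ?_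
    · intro M hM
      rw [Finset.mem_filter] at hM ⊢
      have h1 := haddpow _ (hrestr M) ((hnilR M).2 hM.2)
      refine ⟨Finset.mem_univ _, ⟨Q, ?_⟩, h1⟩
      rw [hQ, ← aeval_pow_card_pow, ← hQ, h1, hs]
    · intro M _ M' _ h
      exact LinearMap.restrictScalars_injective F (add_left_cancel h)
    · intro g hg
      rw [Finset.mem_filter] at hg
      obtain ⟨-, hg1, hg2⟩ := hg
      have hcomm : ∀ v, (g - s) (AdjoinRoot.root f • v) = AdjoinRoot.root f • (g - s) v := by
        intro v
        have hc : Commute g s := hg2 ▸ Commute.self_pow g Q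
        rw [hroot, hroot, ← Module.End.mul_apply, ← Module.End.mul_apply,
          (hc.sub_left (Commute.refl s)).eq]
      set M : Module.End (AdjoinRoot f) V :=
        { toAddHom := (g - s).toAddHom
          map_smul' := fun c v => smul_root_comm (g - s) hcomm c v } with hM
      have hMr : M.restrictScalars F = g - s := LinearMap.ext fun v => rfl
      refine ⟨M, Finset.mem_filter.2 ⟨Finset.mem_univ _, (hnilR M).1 ?_⟩, ?_⟩
      · rw [hMr, ← hg2, ← neg_sub, isNilpotent_neg_iff]
        exact isNilpotent_pow_sub_self hf g hg1 n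
      · rw [hMr, add_sub_cancel]
    · intro M hM
      rw [Finset.mem_filter] at hM
      set N := (M.restrictScalars F : Module.End F V) with hN
      set g := s + N with hgdef
      have h1 : g ^ Q = s := haddpow _ (hrestr M) ((hnilR M).2 hM.2)
      have hgn : IsNilpotent (aeval g f) := ⟨Q, by
        rw [hQ, ← aeval_pow_card_pow, ← hQ, h1, hs]⟩
      have hker : LinearMap.ker (aeval g f) = (LinearMap.ker M).restrictScalars F := by
        ext v
        rw [Submodule.restrictScalars_mem, LinearMap.mem_ker, LinearMap.mem_ker]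
        constructor
        · intro hv
          obtain ⟨h, hh⟩ := dvd_pow_card_sub_X hf n
          have h2 : (g ^ Q - g) v = 0 := by
            rw [mul_comm f h] at hh
            have h3 := congrArg (aeval g) hh
            rw [map_sub, map_pow, aeval_X, map_mul] at h3
            rw [hQ, h3, Module.End.mul_apply, hv, map_zero]
          rw [h1, hgdef, sub_add_cancel_left, LinearMap.neg_apply, neg_eq_zero] at h2
          exact h2
        · intro hv
          have hpw : ∀ i, (g ^ i) v = (s ^ i) v := by
            intro i
            induction i with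
            | zero => rfl
            | succ i ih =>
              rw [pow_succ', pow_succ', Module.End.mul_apply, Module.End.mul_apply, ih, hgdef,
                LinearMap.add_apply, add_eq_left, ← Module.End.mul_apply,
                ← ((hrestr M).pow_left i).eq, Module.End.mul_apply,
                LinearMap.restrictScalars_apply, hv, map_zero]
          have h4 : aeval g f v = aeval s f v := by
            rw [aeval_eq_sum_range, aeval_eq_sum_range, LinearMap.sum_apply, LinearMap.sum_apply]
            exact Finset.sum_congr rfl fun i _ => by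
              rw [LinearMap.smul_apply, LinearMap.smul_apply, hpw]
          rw [h4, hs]; rfl
      have hfr : finrank F (LinearMap.ker (aeval g f)) =
          d * finrank (AdjoinRoot f) (LinearMap.ker M) := by
        rw [hker, ← hdim]
        exact (finrank_mul_finrank F (AdjoinRoot f) (LinearMap.ker M)).symm
      rw [cusA, if_pos hgn, nilW, if_pos hM.2, ell, hfr, Nat.mul_div_cancel_left _ hd0, hcardK,
        Nat.cast_pow]
  rw [hsum, sum_nilW_sq (V := V) hk0, hkK, ← mul_assoc, mul_comm ((Fintype.card F : ℤ) ^ n - 1),
    mul_assoc]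
  congr 1
  have h2 := sum_nilW (V := V) hk0
  rw [hkK, hcardK, Nat.cast_pow, ← pow_mul, ← hk] at h2
  rw [h2]
  norm_cast
  refine Nat.card_congr
    { toFun := fun e => ⟨e.restrictScalars F, fun v => by
        rw [LinearEquiv.restrictScalars_apply, LinearEquiv.restrictScalars_apply, ← hroot,
          map_smul]⟩
      invFun := fun e =>
        { e.1 with
          map_smul' := fun c v => smul_root_comm (e.1 : V →ₗ[F] Fin k → AdjoinRoot f)
            (fun w => by rw [hroot]; exact e.2 w) c v }
      left_inv := fun e => LinearEquiv.ext fun v => rfl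
      right_inv := fun e => Subtype.ext (LinearEquiv.ext fun v => rfl) }

open Classical in
/-- **The square sum over primary elements**, times `q^n - 1`. -/
theorem sum_cusA_sq (hf : Irreducible f) [Fintype (Module.End F V)] (hV : 0 < finrank F V) :
    ((Fintype.card F : ℤ) ^ finrank F V - 1) * f.natDegree *
      ∑ g : Module.End F V, cusA f g * cusA f g =
      if f.natDegree ∣ finrank F V then
        (finrank F V : ℤ) * Nat.card (V ≃ₗ[F] V) else 0 := by
  haveI : Fact (Irreducible f) := ⟨hf⟩
  haveI : Finite V := Module.finite_of_finite F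
  set d := f.natDegree with hd
  set n := finrank F V with hn
  set Q := Fintype.card F ^ (d * n) with hQ
  have hd0 : 0 < d := hf.natDegree_pos
  have hsplit : ∑ g : Module.End F V, cusA f g * cusA f g =
      ∑ s ∈ Finset.univ.filter (fun s : Module.End F V => aeval s f = 0),
        ∑ g ∈ Finset.univ.filter (fun g : Module.End F V =>
          IsNilpotent (aeval g f) ∧ g ^ Q = s), cusA f g * cusA f g := by
    rw [← Finset.sum_filter_of_ne (s := Finset.univ)
      (p := fun g : Module.End F V => IsNilpotent (aeval g f))
      (f := fun g => cusA f g * cusA f g) (fun g _ hg => by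
        by_contra h
        rw [cusA, if_neg h, mul_zero] at hg
        exact hg rfl)]
    rw [← Finset.sum_fiberwise_of_maps_to (g := fun g : Module.End F V => g ^ Q)
      (t := Finset.univ.filter (fun s : Module.End F V => aeval s f = 0))]
    · simp only [Finset.filter_filter]
    · intro g hg
      rw [Finset.mem_filter] at hg
      refine Finset.mem_filter.2 ⟨Finset.mem_univ _, ?_⟩
      obtain ⟨t, ht⟩ : ∃ t, Q = n + t := by
        have : n ≤ Q := le_trans (Nat.le_mul_of_pos_left n hd0)
          (Nat.lt_pow_self Fintype.one_lt_card).le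
        exact ⟨Q - n, by omega⟩
      rw [hQ, aeval_pow_card_pow, ← hQ, ht, pow_add, pow_finrank_eq_zero hg.2, zero_mul]
  split_ifs with hdvd
  swap
  · have hempty : Finset.univ.filter (fun s : Module.End F V => aeval s f = 0) = ∅ :=
      Finset.filter_false_of_mem fun s _ hs =>
        hdvd (card_core_bot_of_annihilated f hf s hs).1
    rw [hsplit, hempty, Finset.sum_empty, mul_zero]
  obtain ⟨k, hk⟩ := hdvd
  haveI : FiniteDimensional F (AdjoinRoot f) := (AdjoinRoot.powerBasis hf.ne_zero).finite
  haveI : Finite (AdjoinRoot f) := Module.finite_of_finite F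
  have hdim : finrank F (Fin k → AdjoinRoot f) = n := by
    rw [Module.finrank_pi_fintype, Finset.sum_const, Finset.card_univ, Fintype.card_fin,
      (AdjoinRoot.powerBasis hf.ne_zero).finrank, AdjoinRoot.powerBasis_dim, smul_eq_mul, hk,
      Nat.mul_comm]
  set e0 : V ≃ₗ[F] (Fin k → AdjoinRoot f) :=
    LinearEquiv.ofFinrankEq V (Fin k → AdjoinRoot f) (hn.symm.trans hdim.symm)
  haveI : Finite (V ≃ₗ[F] (Fin k → AdjoinRoot f)) := Finite.of_injective _ DFunLike.coe_injective
  have hcount : Nat.card (V ≃ₗ[F] V) =
      ∑ s ∈ Finset.univ.filter (fun s : Module.End F V => aeval s f = 0),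
        Nat.card {e : V ≃ₗ[F] (Fin k → AdjoinRoot f) //
          ∀ v, e (s v) = AdjoinRoot.root f • e v} := by
    letI : Fintype (V ≃ₗ[F] (Fin k → AdjoinRoot f)) := Fintype.ofFinite _
    rw [show Nat.card (V ≃ₗ[F] V) = Nat.card (V ≃ₗ[F] (Fin k → AdjoinRoot f)) from
      Nat.card_congr
        { toFun := fun e => e.trans e0
          invFun := fun e => e.trans e0.symm
          left_inv := fun e => LinearEquiv.ext fun v => by simp
          right_inv := fun e => LinearEquiv.ext fun v => by simp }]
    set sOf : (V ≃ₗ[F] (Fin k → AdjoinRoot f)) → Module.End F V := fun e =>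
      e.symm.toLinearMap ∘ₗ
        (Algebra.lsmul F F (Fin k → AdjoinRoot f) (AdjoinRoot.root f)) ∘ₗ e.toLinearMap with hsOf
    rw [Nat.card_eq_fintype_card, ← Finset.card_univ,
      Finset.card_eq_sum_card_fiberwise (f := sOf)
        (t := Finset.univ.filter (fun s : Module.End F V => aeval s f = 0))]
    · refine Finset.sum_congr rfl fun s _ => ?_
      rw [← Fintype.card_subtype, ← Nat.card_eq_fintype_card]
      refine Nat.card_congr (Equiv.subtypeEquivRight fun e => ?_)
      rw [LinearMap.ext_iff]
      refine forall_congr' fun v => ?_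
      simp only [hsOf, LinearMap.comp_apply, LinearEquiv.coe_coe, Algebra.lsmul_coe,
        LinearEquiv.symm_apply_eq]
      exact eq_comm
    · intro e _
      rw [Finset.mem_coe, Finset.mem_filter]
      refine ⟨Finset.mem_univ _, LinearMap.ext fun v => e.injective ?_⟩
      set L : AdjoinRoot f →ₐ[F] Module.End F (Fin k → AdjoinRoot f) := Algebra.lsmul F F _
      rw [aeval_congr e (g' := L (AdjoinRoot.root f)) (fun w => by simp [hsOf, L]) f v,
        aeval_algHom_apply, AdjoinRoot.aeval_eq, AdjoinRoot.mk_self, map_zero, LinearMap.zero_apply,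
        LinearMap.zero_apply, map_zero]
  rw [hsplit, mul_comm _ (d : ℤ), mul_assoc, Finset.mul_sum, hcount, Nat.cast_sum, Finset.mul_sum,
    Finset.mul_sum]
  refine Finset.sum_congr rfl fun s hs => ?_
  rw [sum_cusA_sq_fibre hf hV hk s (Finset.mem_filter.1 hs).2, ← mul_assoc]
  congr 1
  exact_mod_cast hk.symm

end CfsgLib.CuspidalGL
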