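import Cfsg.Agent.CuspidalGL.Identity

/-!
# Cuspidal characters of `GL_n`: the sums over a unipotent radical vanish
-/

set_option autoImplicit false
set_option linter.style.haveILetI false

namespace CfsgLib.CuspidalGL

open Finset Polynomial Module

universe u v w

variable {F : Type u} [Field F] [Fintype F]

/-- The weight of a nilpotent operator. -/
noncomputable def nilW {V : Type v} [AddCommGroup V] [Module F V] (N : Module.End F V) : ℤ := by
  classical
  exact if IsNilpotent N then cusC (Fintype.card F : ℤ) (finrank F (LinearMap.ker N)) else 0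

theorem cusA_X {V : Type v} [AddCommGroup V] [Module F V] (N : Module.End F V) :
    cusA X N = nilW N := by
  classical
  simp only [cusA, nilW, ell, natDegree_X, Nat.div_one, pow_one]
  rw [aeval_X]

variable {W : Type v} [AddCommGroup W] [Module F W] [FiniteDimensional F W]

/-- The tuples `v : Fin k → W`, weighted by `cusC (dim W + k - rank v)`, sum to zero. -/
theorem sum_tuples [Fintype W] (hW : 0 < finrank F W) : ∀ k : ℕ,
    ∑ v : Fin (k + 1) → W, cusC (Fintype.card F : ℤ)
      (finrank F W + (k + 1) - finrank F (Submodule.span F (Set.range v))) = 0 := by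
  classical
  set q : ℤ := (Fintype.card F : ℤ) with hq
  set m := finrank F W with hm
  have step : ∀ k : ℕ,
      ∑ v : Fin (k + 1) → W, cusC q (m + (k + 1) - finrank F (Submodule.span F (Set.range v))) =
        (q ^ m - q ^ (m + k)) *
          ∑ v : Fin k → W, cusC q (m + k - finrank F (Submodule.span F (Set.range v))) := by
    intro k
    rw [← (Fin.consEquiv fun _ => W).sum_comp, Fintype.sum_prod_type, Finset.sum_comm,
      Finset.mul_sum]
    refine Finset.sum_congr rfl fun v _ => ?_
    set S := Submodule.span F (Set.range v) with hS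
    set r := finrank F S with hr
    have hrk : r ≤ k := (finrank_range_le_card v).trans (Fintype.card_fin k).le
    have hrm : r ≤ m := S.finrank_le
    have hspan : ∀ x : W, Submodule.span F (Set.range (Fin.cons x v : Fin (k + 1) → W)) =
        Submodule.span F {x} ⊔ S := fun x => by
      rw [Fin.range_cons, Submodule.span_insert]
    have hin : ∀ x ∈ S, finrank F (Submodule.span F {x} ⊔ S : Submodule F W) = r := fun x hx => by
      rw [sup_eq_right.2 ((Submodule.span_singleton_le_iff_mem _ _).2 hx)]
    have hout : ∀ x ∉ S, finrank F (Submodule.span F {x} ⊔ S : Submodule F W) = r + 1 := by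
      intro x hx
      have hx0 : x ≠ 0 := fun h => hx (h ▸ S.zero_mem)
      have hinf : Submodule.span F {x} ⊓ S = ⊥ := by
        refine (Submodule.eq_bot_iff _).2 fun y hy => ?_
        obtain ⟨hy1, hy2⟩ := Submodule.mem_inf.1 hy
        obtain ⟨c, rfl⟩ := Submodule.mem_span_singleton.1 hy1
        by_contra hc
        have hc0 : c ≠ 0 := fun h => hc (by rw [h, zero_smul])
        exact hx ((Submodule.smul_mem_iff _ hc0).1 hy2)
      have := Submodule.finrank_sup_add_finrank_inf_eq (Submodule.span F {x}) S
      rw [hinf, finrank_bot, add_zero, finrank_span_singleton hx0] at this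
      omega
    have hcard : ((Finset.univ.filter fun x : W => x ∈ S).card : ℤ) = q ^ r := by
      rw [← Fintype.card_subtype, ← Nat.card_eq_fintype_card,
        show Nat.card {x // x ∈ S} = Nat.card S from rfl,
        Module.natCard_eq_pow_finrank (K := F), Nat.card_eq_fintype_card, Nat.cast_pow]
    have htot : ((Finset.univ.filter fun x : W => x ∉ S).card : ℤ) = q ^ m - q ^ r := by
      have := Finset.card_filter_add_card_filter_not (s := (Finset.univ : Finset W))
        (fun x => x ∈ S)
      rw [Finset.card_univ, Module.card_eq_pow_finrank (K := F) (V := W)] at this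
      have h2 := congrArg (fun n : ℕ => (n : ℤ)) this
      simp only [Nat.cast_add, Nat.cast_pow, ← hm, ← hq] at h2
      linarith
    refine Eq.trans (Finset.sum_congr rfl (g := fun x : W =>
      if x ∈ S then cusC q (m + k - r + 1) else cusC q (m + k - r)) fun x _ => ?_) ?_
    · change cusC q (m + (k + 1) -
        finrank F (Submodule.span F (Set.range (Fin.cons x v : Fin (k + 1) → W)))) = _
      rw [hspan]
      split_ifs with hx
      · rw [hin x hx, show m + (k + 1) - r = (m + k - r) + 1 by omega]
      · rw [hout x hx, show m + (k + 1) - (r + 1) = m + k - r by omega]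
    rw [Finset.sum_ite, Finset.sum_const, Finset.sum_const, nsmul_eq_mul, nsmul_eq_mul, hcard,
      htot, cusC_succ q (by omega)]
    have he : q ^ r * q ^ (m + k - r) = q ^ (m + k) := by
      rw [← pow_add]; congr 1; omega
    linear_combination (-cusC q (m + k - r)) * he
  intro k
  induction k with
  | zero => rw [step 0, add_zero, sub_self, zero_mul]
  | succ k ih => rw [step (k + 1), ih, mul_zero]

/-- The weights `cusC (dim W + dim ker X)` over all maps `X : Q → W` sum to zero. -/
theorem sum_hom {Q : Type w} [AddCommGroup Q] [Module F Q] [FiniteDimensional F Q]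
    [Fintype (Q →ₗ[F] W)] (hW : 0 < finrank F W) (hQ : 0 < finrank F Q) :
    ∑ X : Q →ₗ[F] W,
      cusC (Fintype.card F : ℤ) (finrank F W + finrank F (LinearMap.ker X)) = 0 := by
  haveI : Finite W := Module.finite_of_finite F
  letI : Fintype W := Fintype.ofFinite _
  obtain ⟨k, hk⟩ : ∃ k, finrank F Q = k + 1 := ⟨finrank F Q - 1, by omega⟩
  set b := Module.finBasisOfFinrankEq F Q hk with hb
  rw [← (b.constr F).toEquiv.sum_comp]
  refine Eq.trans ?_ (sum_tuples hW k)
  refine Finset.sum_congr rfl fun v _ => ?_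
  have h2 := LinearMap.finrank_range_add_finrank_ker ((b.constr F) v)
  rw [Basis.constr_range, hk] at h2
  congr 1
  simp only [LinearEquiv.coe_toEquiv]
  omega

variable {V : Type v} [AddCommGroup V] [Module F V] [FiniteDimensional F V]

omit [Fintype F] [FiniteDimensional F V] in
theorem translate_inv {U : Submodule F V} {N : Module.End F V} (hN : U ≤ U.comap N)
    (X : (V ⧸ U) →ₗ[F] U) : U ≤ U.comap (N + U.subtype ∘ₗ X ∘ₗ U.mkQ) := fun v hv => by
  rw [Submodule.mem_comap, LinearMap.add_apply]
  exact U.add_mem (hN hv) (Submodule.coe_mem _)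

omit [Fintype F] [FiniteDimensional F V] in
theorem translate_apply_mem {U : Submodule F V} (N : Module.End F V)
    (X : (V ⧸ U) →ₗ[F] U) {v : V} (hv : v ∈ U) :
    (N + U.subtype ∘ₗ X ∘ₗ U.mkQ) v = N v := by
  rw [LinearMap.add_apply, LinearMap.comp_apply, LinearMap.comp_apply, Submodule.mkQ_apply,
    (Submodule.Quotient.mk_eq_zero U).2 hv, map_zero, map_zero, add_zero]

omit [Fintype F] [FiniteDimensional F V] in
theorem quotMap_translate {U : Submodule F V} {N : Module.End F V} (hN : U ≤ U.comap N)
    (X : (V ⧸ U) →ₗ[F] U) : quotMap (N + U.subtype ∘ₗ X ∘ₗ U.mkQ) U = quotMap N U := by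
  refine LinearMap.ext fun x => ?_
  obtain ⟨v, rfl⟩ := Submodule.Quotient.mk_surjective U x
  rw [quotMap_mk (translate_inv hN X), quotMap_mk hN, Submodule.Quotient.eq,
    LinearMap.add_apply, add_sub_cancel_left]
  exact Submodule.coe_mem _

omit [Fintype F] [FiniteDimensional F V] in
theorem isNilpotent_iff_restrict {U : Submodule F V} {N : Module.End F V} (hN : U ≤ U.comap N) :
    IsNilpotent N ↔ IsNilpotent (quotMap N U) ∧ ∃ e : ℕ, ∀ v ∈ U, (N ^ e) v = 0 := by
  constructor
  · rintro ⟨e, he⟩
    refine ⟨⟨e, LinearMap.ext fun x => ?_⟩, e, fun v _ => by rw [he]; rfl⟩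
    obtain ⟨v, rfl⟩ := Submodule.Quotient.mk_surjective U x
    rw [quotMap_pow_mk hN, he]
    rfl
  · rintro ⟨⟨e, he⟩, e', he'⟩
    refine ⟨e' + e, LinearMap.ext fun v => ?_⟩
    rw [pow_add, Module.End.mul_apply, LinearMap.zero_apply]
    refine he' _ ((Submodule.Quotient.mk_eq_zero U).1 ?_)
    rw [← quotMap_pow_mk hN, he]
    rfl

omit [Fintype F] [FiniteDimensional F V] in
theorem isNilpotent_translate {U : Submodule F V} {N : Module.End F V} (hN : U ≤ U.comap N)
    (X : (V ⧸ U) →ₗ[F] U) :
    IsNilpotent (N + U.subtype ∘ₗ X ∘ₗ U.mkQ) ↔ IsNilpotent N := by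
  rw [isNilpotent_iff_restrict (translate_inv hN X), isNilpotent_iff_restrict hN,
    quotMap_translate hN X]
  refine and_congr_right fun _ => exists_congr fun e => forall₂_congr fun v hv => ?_
  have : ∀ i, ((N + U.subtype ∘ₗ X ∘ₗ U.mkQ) ^ i) v = (N ^ i) v := by
    intro i
    induction i with
    | zero => rfl
    | succ i ih =>
      rw [pow_succ', pow_succ', Module.End.mul_apply, Module.End.mul_apply, ih,
        translate_apply_mem N X (pow_mem hN i hv)]
  rw [this]

/-- **The sum over a coset of the unipotent radical of `U` vanishes.** -/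
theorem sum_translate {U : Submodule F V} (hU0 : U ≠ ⊥) (hU1 : U ≠ ⊤) {N : Module.End F V}
    (hN : U ≤ U.comap N) [Fintype ((V ⧸ U) →ₗ[F] U)] :
    ∑ X : (V ⧸ U) →ₗ[F] U, nilW (N + U.subtype ∘ₗ X ∘ₗ U.mkQ) = 0 := by
  classical
  by_cases hnil : IsNilpotent N
  swap
  · refine Finset.sum_eq_zero fun X _ => ?_
    simp [nilW, isNilpotent_translate hN X, hnil]
  set a : Module.End F U := N.restrict (p := U) (q := U) hN with ha
  obtain ⟨hb, e', he'⟩ := (isNilpotent_iff_restrict hN).1 hnil
  set K := LinearMap.ker (quotMap N U) with hK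
  obtain ⟨σ, hσ⟩ := LinearMap.exists_rightInverse_of_surjective U.mkQ
    (LinearMap.range_eq_top.2 (Submodule.mkQ_surjective U))
  have hσx : ∀ x, Submodule.Quotient.mk (σ x) = x := fun x => LinearMap.congr_fun hσ x
  have hKmem : ∀ x ∈ K, N (σ x) ∈ U := fun x hx => by
    rw [← Submodule.Quotient.mk_eq_zero U, ← quotMap_mk hN, hσx]
    exact hx
  set δ0 : K →ₗ[F] (U ⧸ LinearMap.range a) := (LinearMap.range a).mkQ ∘ₗ
    LinearMap.codRestrict U (N ∘ₗ σ ∘ₗ K.subtype) (fun x => hKmem x.1 x.2) with hδ0
  have hcod : ∀ y : K, ((LinearMap.codRestrict U (N ∘ₗ σ ∘ₗ K.subtype)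
      (fun x => hKmem x.1 x.2)) y : V) = N (σ y.1) := fun _ => rfl
  set Φ : ((V ⧸ U) →ₗ[F] U) →ₗ[F] (K →ₗ[F] (U ⧸ LinearMap.range a)) :=
    { toFun := fun X => (LinearMap.range a).mkQ ∘ₗ X ∘ₗ K.subtype
      map_add' := fun X Y => by ext; simp
      map_smul' := fun c X => by ext; simp } with hΦ
  have hdim : ∀ X, finrank F (LinearMap.ker (N + U.subtype ∘ₗ X ∘ₗ U.mkQ)) =
      finrank F (U ⧸ LinearMap.range a) + finrank F (LinearMap.ker (δ0 + Φ X)) := by
    intro X
    set N' := N + U.subtype ∘ₗ X ∘ₗ U.mkQ with hN'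
    set π := U.mkQ ∘ₗ (LinearMap.ker N').subtype with hπ
    have h1 := LinearMap.finrank_range_add_finrank_ker π
    have hrange : LinearMap.range π = (LinearMap.ker (δ0 + Φ X)).map K.subtype := by
      ext x
      constructor
      · rintro ⟨⟨v, hv⟩, rfl⟩
        rw [LinearMap.mem_ker, hN', LinearMap.add_apply] at hv
        have hxK : U.mkQ v ∈ K := by
          rw [hK, LinearMap.mem_ker, Submodule.mkQ_apply, quotMap_mk hN,
            Submodule.Quotient.mk_eq_zero]
          rw [eq_neg_of_add_eq_zero_left hv]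
          exact U.neg_mem (Submodule.coe_mem _)
        refine ⟨⟨U.mkQ v, hxK⟩, ?_, rfl⟩
        simp only [SetLike.mem_coe, LinearMap.mem_ker, LinearMap.add_apply, hδ0, hΦ,
          LinearMap.coe_mk, AddHom.coe_mk, LinearMap.comp_apply, Submodule.mkQ_apply,
          Submodule.subtype_apply, ← Submodule.Quotient.mk_add, Submodule.Quotient.mk_eq_zero]
        have hu : σ (Submodule.Quotient.mk v) - v ∈ U := by
          rw [← Submodule.Quotient.eq, hσx]
        refine ⟨⟨_, hu⟩, Subtype.ext ?_⟩
        simp only [LinearMap.comp_apply, Submodule.subtype_apply, Submodule.mkQ_apply] at hv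
        simp only [ha, LinearMap.coe_restrict_apply, Submodule.coe_add, hcod, map_sub]
        linear_combination (norm := abel) -hv
      · rintro ⟨y, hy, rfl⟩
        simp only [SetLike.mem_coe, LinearMap.mem_ker, LinearMap.add_apply, hδ0, hΦ,
          LinearMap.coe_mk, AddHom.coe_mk, LinearMap.comp_apply, Submodule.mkQ_apply,
          Submodule.subtype_apply, ← Submodule.Quotient.mk_add,
          Submodule.Quotient.mk_eq_zero] at hy
        obtain ⟨u, hu⟩ := hy
        have hu' := congrArg Subtype.val hu
        simp only [ha, LinearMap.coe_restrict_apply, Submodule.coe_add, hcod] at hu'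
        have hmk : (Submodule.Quotient.mk (σ y.1 - (u : V)) : V ⧸ U) = y.1 := by
          rw [Submodule.Quotient.mk_sub, hσx, (Submodule.Quotient.mk_eq_zero U).2 u.2, sub_zero]
        refine ⟨⟨σ y.1 - (u : V), ?_⟩, hmk⟩
        rw [LinearMap.mem_ker, hN', LinearMap.add_apply, LinearMap.comp_apply,
          LinearMap.comp_apply, Submodule.mkQ_apply, hmk, Submodule.subtype_apply, map_sub]
        linear_combination (norm := abel) -hu'
    have hker : finrank F (LinearMap.ker π) = finrank F (U ⧸ LinearMap.range a) := by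
      have e1 : (LinearMap.ker π).map (LinearMap.ker N').subtype =
          (LinearMap.ker a).map U.subtype := by
        ext v
        constructor
        · rintro ⟨⟨w, hw⟩, hw2, rfl⟩
          have hwU : w ∈ U := (Submodule.Quotient.mk_eq_zero U).1 hw2
          refine ⟨⟨w, hwU⟩, ?_, rfl⟩
          rw [LinearMap.mem_ker, hN', translate_apply_mem N X hwU] at hw
          exact Subtype.ext hw
        · rintro ⟨⟨w, hw⟩, hw2, rfl⟩
          have hw3 : N w = 0 := congrArg Subtype.val (hw2 : a ⟨w, hw⟩ = 0)
          refine ⟨⟨w, ?_⟩, (Submodule.Quotient.mk_eq_zero U).2 hw, rfl⟩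
          rw [LinearMap.mem_ker, hN', translate_apply_mem N X hw, hw3]
      have e2 := congrArg (fun S : Submodule F V => finrank F S) e1
      rw [Submodule.finrank_map_subtype_eq, Submodule.finrank_map_subtype_eq] at e2
      have h3 := LinearMap.finrank_range_add_finrank_ker a
      have h4 := (LinearMap.range a).finrank_quotient_add_finrank
      omega
    rw [hrange, Submodule.finrank_map_subtype_eq, hker] at h1
    rw [← h1, add_comm]
  have hC0 : 0 < finrank F (U ⧸ LinearMap.range a) := by
    haveI : Nontrivial U := Submodule.nontrivial_iff_ne_bot.2 hU0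
    haveI : Nontrivial (U ⧸ LinearMap.range a) := by
      refine Submodule.Quotient.nontrivial_iff.2 fun htop => ?_
      have hs : Function.Surjective a := LinearMap.range_eq_top.1 htop
      obtain ⟨u, hu⟩ := exists_ne (0 : U)
      obtain ⟨w, hw⟩ := (hs.iterate e') u
      refine hu ?_
      rw [← hw, ← Module.End.coe_pow]
      refine Subtype.ext ?_
      have : ∀ i, ((a ^ i) w : V) = (N ^ i) w := by
        intro i
        induction i with
        | zero => rfl
        | succ i ih =>
          rw [pow_succ', pow_succ', Module.End.mul_apply, Module.End.mul_apply, ← ih]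
          rfl
      rw [this, he' _ w.2]
      rfl
    exact Module.finrank_pos
  have hK0 : 0 < finrank F K := by
    haveI : Nontrivial (V ⧸ U) := Submodule.Quotient.nontrivial_iff.2 hU1
    haveI : Nontrivial K := by
      refine Submodule.nontrivial_iff_ne_bot.2 fun hbot => ?_
      obtain ⟨e, he⟩ := hb
      obtain ⟨x, hx⟩ := exists_ne (0 : V ⧸ U)
      have hinj : Function.Injective ⇑(quotMap N U ^ e) := by
        rw [Module.End.coe_pow]
        exact (LinearMap.ker_eq_bot.1 hbot).iterate e
      exact hx (hinj (by rw [he]; rfl))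
    exact Module.finrank_pos
  obtain ⟨r, hr⟩ := LinearMap.exists_leftInverse_of_injective K.subtype (Submodule.ker_subtype K)
  obtain ⟨s, hs⟩ := LinearMap.exists_rightInverse_of_surjective (LinearMap.range a).mkQ
    (LinearMap.range_eq_top.2 (Submodule.mkQ_surjective _))
  haveI : Finite V := Module.finite_of_finite F
  haveI : Finite (U ⧸ LinearMap.range a) := Module.finite_of_finite F
  haveI : Finite K := Module.finite_of_finite F
  haveI : Finite (K →ₗ[F] (U ⧸ LinearMap.range a)) := Finite.of_injective _ DFunLike.coe_injective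
  letI : Fintype (K →ₗ[F] (U ⧸ LinearMap.range a)) := Fintype.ofFinite _
  have hsplit : ∀ Y : K →ₗ[F] (U ⧸ LinearMap.range a), Φ (s ∘ₗ Y ∘ₗ r) = Y := fun Y => by
    refine LinearMap.ext fun x => ?_
    have h1 : r (x : V ⧸ U) = x := LinearMap.congr_fun hr x
    have h2 : (LinearMap.range a).mkQ (s (Y x)) = Y x := LinearMap.congr_fun hs (Y x)
    simpa [hΦ, h1] using h2
  set G : (K →ₗ[F] (U ⧸ LinearMap.range a)) → ℤ := fun Y =>
    cusC (Fintype.card F : ℤ) (finrank F (U ⧸ LinearMap.range a) + finrank F (LinearMap.ker Y)) with hG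
  have hterm : ∀ X, nilW (N + U.subtype ∘ₗ X ∘ₗ U.mkQ) = G (δ0 + Φ X) := fun X => by
    rw [nilW, if_pos ((isNilpotent_translate hN X).2 hnil), hdim X]
  rw [Finset.sum_congr rfl fun X _ => hterm X]
  have key : (Fintype.card (K →ₗ[F] (U ⧸ LinearMap.range a)) : ℤ) * ∑ X, G (δ0 + Φ X) = 0 := by
    calc (Fintype.card (K →ₗ[F] (U ⧸ LinearMap.range a)) : ℤ) * ∑ X, G (δ0 + Φ X)
        = ∑ Y : K →ₗ[F] (U ⧸ LinearMap.range a), ∑ X, G (δ0 + Φ X) := by
          rw [Finset.sum_const, Finset.card_univ, nsmul_eq_mul]
      _ = ∑ Y : K →ₗ[F] (U ⧸ LinearMap.range a), ∑ X, G (δ0 + Φ X + Y) := by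
          refine Finset.sum_congr rfl fun Y _ => ?_
          rw [← Equiv.sum_comp (Equiv.addRight (s ∘ₗ Y ∘ₗ r)) fun X => G (δ0 + Φ X)]
          exact Finset.sum_congr rfl fun X _ => by
            rw [Equiv.coe_addRight, map_add, hsplit, ← add_assoc]
      _ = 0 := by
          rw [Finset.sum_comm]
          refine Finset.sum_eq_zero fun X _ => ?_
          rw [← sum_hom (W := (U ⧸ LinearMap.range a)) (Q := K) hC0 hK0]
          exact Equiv.sum_comp (Equiv.addLeft (δ0 + Φ X)) G
  exact (mul_eq_zero.1 key).resolve_left (Int.natCast_ne_zero.2 Fintype.card_ne_zero)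

end CfsgLib.CuspidalGL
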