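import Cfsg.Agent.CuspidalGL.Poly

/-!
# Cuspidal characters of `GL_n`: maps with no invariant subspace in their kernel
-/

set_option autoImplicit false
set_option linter.style.haveILetI false

namespace CfsgLib.CuspidalGL

open Finset Polynomial Module

universe u v

variable {F : Type u} [Field F] {V : Type v} [AddCommGroup V] [Module F V]

/-- The largest `g`-invariant subspace inside the kernel of `φ`. -/
def core {a : ℕ} (g : Module.End F V) (φ : V →ₗ[F] Fin a → F) : Submodule F V :=
  ⨅ i : ℕ, LinearMap.ker (φ ∘ₗ (g ^ i))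

theorem mem_core {a : ℕ} {g : Module.End F V} {φ : V →ₗ[F] Fin a → F} {v : V} :
    v ∈ core g φ ↔ ∀ i : ℕ, φ ((g ^ i) v) = 0 := by simp [core, Submodule.mem_iInf]

theorem core_inv {a : ℕ} (g : Module.End F V) (φ : V →ₗ[F] Fin a → F) :
    core g φ ≤ (core g φ).comap g := by
  intro v hv
  rw [Submodule.mem_comap, mem_core]
  intro i
  have := mem_core.1 hv (i + 1)
  rwa [pow_succ] at this

theorem pow_mem {g : Module.End F V} {U : Submodule F V} (hU : U ≤ U.comap g) :
    ∀ (i : ℕ) {v : V}, v ∈ U → (g ^ i) v ∈ U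
  | 0, _, h => by simpa using h
  | i + 1, v, h => by
    rw [pow_succ', Module.End.mul_apply]
    exact hU (pow_mem hU i h)

theorem le_core {a : ℕ} {g : Module.End F V} {φ : V →ₗ[F] Fin a → F} {U : Submodule F V}
    (hU : U ≤ U.comap g) (hk : U ≤ LinearMap.ker φ) : U ≤ core g φ :=
  fun _ hv => mem_core.2 fun i => hk (pow_mem hU i hv)

theorem aeval_mem {g : Module.End F V} {U : Submodule F V} (hU : U ≤ U.comap g) (p : F[X]) {v : V}
    (hv : v ∈ U) : aeval g p v ∈ U := by
  rw [aeval_eq_sum_range, LinearMap.sum_apply]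
  exact Submodule.sum_mem _ fun i _ => U.smul_mem _ (pow_mem hU i hv)

variable [Fintype F] [FiniteDimensional F V]

/-- If `f(g) = 0` then `V` is a space over `F[T]/f`, and the maps to `F^a` without invariant
subspace in their kernel are the injective maps over that field. -/
theorem card_core_bot_of_annihilated (f : F[X]) (hf : Irreducible f) (g : Module.End F V)
    (hg : aeval g f = 0) :
    f.natDegree ∣ finrank F V ∧ ∀ a : ℕ, finrank F V ≤ a →
      (Nat.card {φ : V →ₗ[F] Fin a → F // core g φ = ⊥} : ℤ) =
        ∏ i ∈ range (finrank F V / f.natDegree),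
          (((Fintype.card F : ℤ) ^ f.natDegree) ^ a - ((Fintype.card F : ℤ) ^ f.natDegree) ^ i) := by
  haveI : Fact (Irreducible f) := ⟨hf⟩
  set d := f.natDegree with hd
  have hf0 : f ≠ 0 := hf.ne_zero
  set θ : AdjoinRoot f →ₐ[F] Module.End F V := Ideal.Quotient.liftₐ (Ideal.span {f})
    (aeval g) (fun p hp => by
      obtain ⟨r, rfl⟩ := Ideal.mem_span_singleton'.1 hp
      rw [map_mul, hg, mul_zero]) with hθ
  letI : Module (AdjoinRoot f) V := Module.compHom V θ.toRingHom
  have hsm : ∀ (k : AdjoinRoot f) (v : V), k • v = θ k v := fun _ _ => rfl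
  haveI : IsScalarTower F (AdjoinRoot f) V := ⟨fun c k v => by
    rw [hsm, hsm, map_smul]; rfl⟩
  have hmk : ∀ p : F[X], θ (AdjoinRoot.mk f p) = aeval g p := fun p => rfl
  haveI : FiniteDimensional F (AdjoinRoot f) := (AdjoinRoot.powerBasis hf0).finite
  haveI : Finite (AdjoinRoot f) := Module.finite_of_finite F
  letI : Fintype (AdjoinRoot f) := Fintype.ofFinite _
  haveI : Finite V := Module.finite_of_finite F
  haveI : Module.Finite (AdjoinRoot f) V := Module.Finite.of_finite
  have hdim : finrank F (AdjoinRoot f) = d := by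
    rw [(AdjoinRoot.powerBasis hf0).finrank, AdjoinRoot.powerBasis_dim]
  have hcardK : Fintype.card (AdjoinRoot f) = Fintype.card F ^ d := by
    rw [Module.card_eq_pow_finrank (K := F) (V := AdjoinRoot f), hdim]
  set k := finrank (AdjoinRoot f) V with hk
  have hVk : finrank F V = d * k := by rw [← hdim, hk, finrank_mul_finrank]
  have hd0 : 0 < d := hf.natDegree_pos
  refine ⟨⟨k, hVk⟩, fun a ha => ?_⟩
  rw [hVk, Nat.mul_div_cancel_left _ hd0]
  obtain ⟨τ, hτ⟩ := LinearMap.exists_leftInverse_of_injective
    (Algebra.linearMap F (AdjoinRoot f))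
    (LinearMap.ker_eq_bot.2 (algebraMap F (AdjoinRoot f)).injective)
  have hτ1 : τ 1 = 1 := by
    have := LinearMap.congr_fun hτ 1
    simpa using this
  set T : (V →ₗ[AdjoinRoot f] Fin a → AdjoinRoot f) → (V →ₗ[F] Fin a → F) :=
    fun φ => (τ.compLeft (Fin a)) ∘ₗ φ.restrictScalars F with hT
  have hTap : ∀ φ v j, T φ v j = τ (φ v j) := fun _ _ _ => rfl
  have hkey : ∀ z : AdjoinRoot f, (∀ c, τ (c * z) = 0) → z = 0 := by
    intro z hz
    by_contra h
    have := hz z⁻¹
    rw [inv_mul_cancel₀ h, hτ1] at this
    exact one_ne_zero this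
  have hTinj : Function.Injective T := by
    intro φ ψ h
    refine LinearMap.ext fun v => funext fun j => sub_eq_zero.1 (hkey _ fun c => ?_)
    have := congrFun (LinearMap.congr_fun h (c • v)) j
    rw [hTap, hTap, map_smul, map_smul, Pi.smul_apply, Pi.smul_apply] at this
    rw [mul_sub, map_sub, ← smul_eq_mul, ← smul_eq_mul, this, sub_self]
  haveI : Finite (V →ₗ[F] Fin a → F) := Finite.of_injective _ DFunLike.coe_injective
  haveI : Finite (V →ₗ[AdjoinRoot f] Fin a → AdjoinRoot f) :=
    Finite.of_injective _ DFunLike.coe_injective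
  have hTbij : Function.Bijective T := by
    refine (Nat.bijective_iff_injective_and_card T).2 ⟨hTinj, ?_⟩
    rw [Module.natCard_eq_pow_finrank (K := F) (V := V →ₗ[F] Fin a → F),
      Module.natCard_eq_pow_finrank (K := AdjoinRoot f)
        (V := V →ₗ[AdjoinRoot f] Fin a → AdjoinRoot f),
      Module.finrank_linearMap, Module.finrank_linearMap, Module.finrank_fin_fun,
      Module.finrank_fin_fun, Nat.card_eq_fintype_card, Nat.card_eq_fintype_card, hcardK, ← hk,
      hVk, ← pow_mul]
    ring_nf
  have hcore : ∀ φ, core g (T φ) = ⊥ ↔ Function.Injective φ := by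
    intro φ
    constructor
    · intro h
      refine (injective_iff_map_eq_zero φ).2 fun v hv => ?_
      have : v ∈ core g (T φ) := mem_core.2 fun i => funext fun j => by
        have h2 : (g ^ i) v = AdjoinRoot.mk f (X ^ i) • v := by
          rw [hsm, hmk, map_pow, aeval_X]
        rw [hTap, h2, map_smul, hv, smul_zero]
        simp
      rwa [h, Submodule.mem_bot] at this
    · intro h
      refine (Submodule.eq_bot_iff _).2 fun v hv => h ?_
      rw [map_zero]
      funext j
      refine hkey _ fun c => ?_
      obtain ⟨p, rfl⟩ := AdjoinRoot.mk_surjective c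
      have h3 : T φ (aeval g p v) = 0 := by
        rw [aeval_eq_sum_range, LinearMap.sum_apply, map_sum]
        refine Finset.sum_eq_zero fun i _ => ?_
        rw [LinearMap.smul_apply, map_smul, mem_core.1 hv i, smul_zero]
      have h2 : aeval g p v = AdjoinRoot.mk f p • v := by rw [hsm, hmk]
      have h4 := congrFun h3 j
      rw [hTap, h2, map_smul, Pi.smul_apply, smul_eq_mul, Pi.zero_apply] at h4
      exact h4
  have e1 : {φ : V →ₗ[AdjoinRoot f] Fin a → AdjoinRoot f // Function.Injective φ} ≃
      {φ : V →ₗ[F] Fin a → F // core g φ = ⊥} :=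
    Equiv.subtypeEquiv (Equiv.ofBijective T hTbij) fun φ => (hcore φ).symm
  set b := Module.finBasis (AdjoinRoot f) V with hb
  have e2 : {s : Fin k → Fin a → AdjoinRoot f // LinearIndependent (AdjoinRoot f) s} ≃
      {φ : V →ₗ[AdjoinRoot f] Fin a → AdjoinRoot f // Function.Injective φ} :=
    Equiv.subtypeEquiv (b.constr (AdjoinRoot f)).toEquiv fun s => by
      constructor
      · intro hs
        rw [← LinearMap.ker_eq_bot]
        refine LinearMap.ker_eq_bot'.2 fun v hv => ?_
        rw [← b.sum_repr v] at hv ⊢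
        simp only [LinearEquiv.coe_toEquiv, map_sum, map_smul, Basis.constr_basis] at hv
        exact Finset.sum_eq_zero fun i _ => by
          rw [Fintype.linearIndependent_iff.1 hs _ hv i, zero_smul]
      · intro hs
        have := b.linearIndependent.map' _ (LinearMap.ker_eq_bot.2 hs)
        have e : ⇑(b.constr (AdjoinRoot f) s) ∘ b = s := funext fun i => b.constr_basis _ s i
        rwa [LinearEquiv.coe_toEquiv, e] at this
  have hka : k ≤ a := le_trans (by rw [hVk]; exact Nat.le_mul_of_pos_left k hd0) ha
  rw [← Nat.card_congr e1, ← Nat.card_congr e2,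
    card_linearIndependent (by rwa [Module.finrank_fin_fun]), Module.finrank_fin_fun, hcardK,
    Nat.cast_prod, ← Fin.prod_univ_eq_prod_range (fun i =>
      ((Fintype.card F : ℤ) ^ d) ^ a - ((Fintype.card F : ℤ) ^ d) ^ i) k]
  refine Finset.prod_congr rfl fun i _ => ?_
  rw [Nat.cast_sub (Nat.pow_le_pow_right (pow_pos Fintype.card_pos d) (i.isLt.le.trans hka))]
  push_cast
  ring

/-- The same count when `f(g)` is nilpotent: only the socle `ker f(g)` matters. -/
theorem card_core_bot (f : F[X]) (hf : Irreducible f) (g : Module.End F V)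
    (hg : IsNilpotent (aeval g f)) :
    f.natDegree ∣ finrank F (LinearMap.ker (aeval g f)) ∧ ∀ a : ℕ, finrank F V ≤ a →
      (Nat.card {φ : V →ₗ[F] Fin a → F // core g φ = ⊥} : ℤ) =
        (injPoly ((Fintype.card F : ℤ) ^ f.natDegree) f.natDegree
          (finrank F (LinearMap.ker (aeval g f)) / f.natDegree)
          (finrank F V - finrank F (LinearMap.ker (aeval g f)))).eval
            ((Fintype.card F : ℤ) ^ a) := by
  set h := aeval g f with hh
  set S := LinearMap.ker h with hS
  have hcomm : Commute g h := by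
    have := Commute.map (show Commute (X : F[X]) f from Commute.all _ _) (aeval g)
    simpa using this
  have hSinv : S ≤ S.comap g := fun v hv => by
    rw [Submodule.mem_comap, hS, LinearMap.mem_ker, ← Module.End.mul_apply, ← hcomm.eq,
      Module.End.mul_apply, LinearMap.mem_ker.1 hv, map_zero]
  set g' := g.restrict (p := S) (q := S) hSinv with hg'
  have hpow : ∀ (i : ℕ) (v : S), ((g' ^ i) v : V) = (g ^ i) v := by
    intro i
    induction i with
    | zero => intro v; rfl
    | succ i ih =>
      intro v
      rw [pow_succ', pow_succ', Module.End.mul_apply, Module.End.mul_apply, ← ih]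
      rfl
  have hg'0 : aeval g' f = 0 := by
    refine LinearMap.ext fun v => Subtype.ext ?_
    have h2 : ((aeval g' f v : S) : V) = h v := by
      rw [hh, aeval_eq_sum_range, aeval_eq_sum_range, LinearMap.sum_apply, LinearMap.sum_apply,
        Submodule.coe_sum]
      exact Finset.sum_congr rfl fun i _ => by
        rw [LinearMap.smul_apply, LinearMap.smul_apply, Submodule.coe_smul, hpow]
    rw [h2]
    exact v.2
  obtain ⟨hdvd, hcount⟩ := card_core_bot_of_annihilated f hf g' hg'0
  refine ⟨hdvd, fun a ha => ?_⟩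
  have hcore : ∀ φ : V →ₗ[F] Fin a → F, core g φ = ⊥ ↔ core g' (φ ∘ₗ S.subtype) = ⊥ := by
    intro φ
    constructor
    · intro h0
      refine (Submodule.eq_bot_iff _).2 fun v hv => Subtype.ext ?_
      have : (v : V) ∈ core g φ := mem_core.2 fun i => by
        have := mem_core.1 hv i
        rwa [LinearMap.comp_apply, Submodule.subtype_apply, hpow] at this
      rw [h0, Submodule.mem_bot] at this
      exact this
    · intro h0
      by_contra hne
      obtain ⟨u, hu, hu0⟩ := Submodule.exists_mem_ne_zero_of_ne_bot hne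
      classical
      obtain ⟨e, he⟩ := hg
      have hex : ∃ j, (h ^ j) u = 0 := ⟨e, by rw [hh, he]; rfl⟩
      have hj0 : Nat.find hex ≠ 0 := fun h1 => hu0 (by
        have := Nat.find_spec hex
        rwa [h1, pow_zero, Module.End.one_apply] at this)
      obtain ⟨j, hj⟩ := Nat.exists_eq_succ_of_ne_zero hj0
      set w := (h ^ j) u with hw
      have hwne : w ≠ 0 := Nat.find_min hex (by omega)
      have hwS : w ∈ S := by
        rw [hS, LinearMap.mem_ker, hw, ← Module.End.mul_apply, ← pow_succ', show j + 1 = Nat.find hex from hj.symm]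
        exact Nat.find_spec hex
      have hwc : w ∈ core g φ := by
        rw [hw, hh, ← map_pow]
        exact aeval_mem (core_inv g φ) _ hu
      have : (⟨w, hwS⟩ : S) ∈ core g' (φ ∘ₗ S.subtype) := mem_core.2 fun i => by
        rw [LinearMap.comp_apply, Submodule.subtype_apply, hpow]
        exact mem_core.1 hwc i
      rw [h0, Submodule.mem_bot] at this
      exact hwne (congrArg Subtype.val this)
  obtain ⟨C, hC⟩ := Submodule.exists_isCompl S
  set e : ((S →ₗ[F] Fin a → F) × (C →ₗ[F] Fin a → F)) ≃ (V →ₗ[F] Fin a → F) :=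
    ((LinearMap.coprodEquiv F).trans
      ((Submodule.prodEquivOfIsCompl S C hC).arrowCongr (LinearEquiv.refl F _))).toEquiv with he
  have hres : ∀ p, e p ∘ₗ S.subtype = p.1 := by
    intro p
    refine LinearMap.ext fun v => ?_
    have h1 : (Submodule.prodEquivOfIsCompl S C hC).symm (v : V) = (v, 0) :=
      Submodule.prodEquivOfIsCompl_symm_apply_left S C hC v
    simp [he, h1]
  have e3 : {χ : S →ₗ[F] Fin a → F // core g' χ = ⊥} × (C →ₗ[F] Fin a → F) ≃
      {φ : V →ₗ[F] Fin a → F // core g φ = ⊥} :=
    { toFun := fun p => ⟨e (p.1.1, p.2), by rw [hcore, hres]; exact p.1.2⟩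
      invFun := fun φ => (⟨(e.symm φ.1).1, by
        rw [← hres (e.symm φ.1), e.apply_symm_apply, ← hcore]; exact φ.2⟩, (e.symm φ.1).2)
      left_inv := fun p => by simp
      right_inv := fun φ => by simp }
  have hdimC : finrank F V - finrank F S = finrank F C := by
    rw [← Submodule.finrank_add_eq_of_isCompl hC]; omega
  rw [← Nat.card_congr e3, Nat.card_prod, Nat.cast_mul,
    hcount a ((Submodule.finrank_le S).trans ha), Module.natCard_eq_pow_finrank (K := F),
    Module.finrank_linearMap, Module.finrank_fin_fun, Nat.card_eq_fintype_card, eval_injPoly,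
    hdimC, Nat.cast_pow, ← pow_mul, ← pow_mul, Nat.mul_comm (finrank F C) a]
  congr 1
  · refine Finset.prod_congr rfl fun i _ => ?_
    rw [Nat.mul_comm a]
  · rw [pow_mul]

end CfsgLib.CuspidalGL
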